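import Cfsg.Agent.Lib.LocalEven.FaithfulBound.ModelL2Odd

/-!
The facts about `PSL₂(q)` used for pushing up with a rank-one quotient.
-/

set_option autoImplicit false

namespace CfsgLib.LocalEven.RankOne

open Subgroup
open CfsgLib.LocalEven.FaithfulBound (upper lower upper00 upper01 upper10 upper11 lower00 lower01 lower10 lower11
  sl_mul_apply sl_ext det_eq_one psl2_pair psl2_pair_odd)

/-- The properties of a group that behaves like `PSL₂(q)`, `q = p ^ n`. -/
structure LikeL2 (p n : ℕ) [Fact p.Prime] (Q : Type*) [Group Q] : Prop where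
  card : ∀ P : Sylow p Q, Nat.card (P : Subgroup Q) = p ^ n
  comm : ∀ P : Sylow p Q, ∀ x ∈ (P : Subgroup Q), ∀ y ∈ (P : Subgroup Q), x * y = y * x
  exponent : ∀ P : Sylow p Q, ∀ x ∈ (P : Subgroup Q), x ^ p = 1
  gen : ∀ (P : Sylow p Q) (N : Subgroup Q), N.Normal → N ≠ ⊥ → N ⊔ P = ⊤
  proper : ∀ P : Sylow p Q, (P : Subgroup Q) ≠ ⊤
  two : ∀ P : Sylow p Q, ∃ g : Q, (P : Subgroup Q) ⊔ (P : Subgroup Q).map (MulAut.conj g).toMonoidHom = ⊤
  pair : 2 ≤ n → ∃ r a : ℕ, r.Prime ∧ r ≠ p ∧ (∀ k, 0 < k → r ^ (a + 1) ∣ p ^ k - 1 → 2 * n ≤ k) ∧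
    ∀ u : Q, u ^ p = 1 → u ≠ 1 → ∃ g, r ^ (a + 1) ∣ orderOf (u * (g * u * g⁻¹))

theorem lt_inf_normalizer {G : Type*} [Group G] [Finite G] {p : ℕ} [Fact p.Prime] {U P : Subgroup G}
    (hP : IsPGroup p P) (h : U < P) : U < P ⊓ normalizer (U : Set G) := by
  haveI := hP.isNilpotent
  have h1 : U.subgroupOf P < ⊤ := lt_top_iff_ne_top.2 fun e => h.not_ge (subgroupOf_eq_top.1 e)
  obtain ⟨x, hx, hxU⟩ := SetLike.exists_of_lt (normalizerCondition_of_isNilpotent _ h1)
  refine lt_of_le_not_ge (le_inf h.le le_normalizer) fun hle => hxU (hle ⟨x.2, ?_⟩)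
  exact mem_normalizer_iff.2 fun y => ⟨fun hy => (mem_normalizer_iff.1 hx ⟨y, h.le hy⟩).1 hy, fun hy => by
    have hyP : y ∈ P := by simpa [mul_assoc] using mul_mem (mul_mem (inv_mem x.2) (h.le hy)) x.2
    exact (mem_normalizer_iff.1 hx ⟨y, hyP⟩).2 hy⟩

section SL2

variable {F : Type*} [Field F]

local notation "S₂" => Matrix.SpecialLinearGroup (Fin 2) F

theorem upper_mul (s t : F) : upper s * upper t = upper (s + t) :=
  sl_ext (by simp [sl_mul_apply, upper00, upper01, upper10, upper11])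
    (by simp [sl_mul_apply, upper00, upper01, upper10, upper11]; ring)
    (by simp [sl_mul_apply, upper00, upper01, upper10, upper11])
    (by simp [sl_mul_apply, upper00, upper01, upper10, upper11])

theorem lower_mul (s t : F) : lower s * lower t = lower (s + t) :=
  sl_ext (by simp [sl_mul_apply, lower00, lower01, lower10, lower11])
    (by simp [sl_mul_apply, lower00, lower01, lower10, lower11])
    (by simp [sl_mul_apply, lower00, lower01, lower10, lower11])
    (by simp [sl_mul_apply, lower00, lower01, lower10, lower11])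

/-- The upper unitriangular group. -/
def upperHom : Multiplicative F →* S₂ :=
  MonoidHom.mk' (fun t => upper (Multiplicative.toAdd t)) (fun s t => (upper_mul _ _).symm)

/-- The monomial element. -/
def weyl (c : F) (hc : c ≠ 0) : S₂ := ⟨!![0, -c⁻¹; c, 0], by simp [Matrix.det_fin_two, hc]⟩

theorem weyl00 (c : F) (hc : c ≠ 0) : (weyl c hc).1 0 0 = 0 := rfl
theorem weyl01 (c : F) (hc : c ≠ 0) : (weyl c hc).1 0 1 = -c⁻¹ := rfl
theorem weyl10 (c : F) (hc : c ≠ 0) : (weyl c hc).1 1 0 = c := rfl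
theorem weyl11 (c : F) (hc : c ≠ 0) : (weyl c hc).1 1 1 = 0 := rfl

/-- A scalar of square one. -/
def scalarM (a : F) (h : a * a = 1) : S₂ := ⟨!![a, 0; 0, a], by simp [Matrix.det_fin_two, h]⟩

theorem scalarM00 (a : F) (h : a * a = 1) : (scalarM a h).1 0 0 = a := rfl
theorem scalarM01 (a : F) (h : a * a = 1) : (scalarM a h).1 0 1 = 0 := rfl
theorem scalarM10 (a : F) (h : a * a = 1) : (scalarM a h).1 1 0 = 0 := rfl
theorem scalarM11 (a : F) (h : a * a = 1) : (scalarM a h).1 1 1 = a := rfl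

theorem scalarM_mem_center (a : F) (h : a * a = 1) : scalarM a h ∈ Subgroup.center S₂ := by
  rw [Subgroup.mem_center_iff]
  intro y
  refine sl_ext ?_ ?_ ?_ ?_ <;> simp [sl_mul_apply, scalarM00, scalarM01, scalarM10, scalarM11, mul_comm]

theorem eq_upper_mul_lower {g : S₂} (hc : g.1 1 0 ≠ 0) :
    g = upper ((g.1 0 0 - 1) / g.1 1 0) * lower (g.1 1 0) * upper ((g.1 1 1 - 1) / g.1 1 0) := by
  have hd := det_eq_one g
  refine sl_ext ?_ ?_ ?_ ?_ <;>
    simp [sl_mul_apply, upper00, upper01, upper10, upper11, lower00, lower01, lower10, lower11]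
  · field_simp; ring
  · field_simp; linear_combination -hd
  · field_simp; ring

theorem closure_elementary_eq_top {H : Subgroup S₂} (hu : ∀ t, upper t ∈ H) (hl : ∀ t, lower t ∈ H) :
    H = ⊤ := by
  refine eq_top_iff.2 fun g _ => ?_
  have key : ∀ g : S₂, g.1 1 0 ≠ 0 → g ∈ H := fun g hc => by
    rw [eq_upper_mul_lower hc]; exact mul_mem (mul_mem (hu _) (hl _)) (hu _)
  by_cases hc : g.1 1 0 = 0
  swap
  · exact key g hc
  have h11 : g.1 1 1 ≠ 0 := fun e => by
    have hd := det_eq_one g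
    rw [hc, e] at hd
    simp at hd
  have h1 := key (g * lower 1) (by simp [sl_mul_apply, lower00, lower01, lower10, lower11, hc, h11])
  simpa using mul_mem h1 (inv_mem (hl 1))

theorem eq_upper_weyl_upper {g : S₂} (hc : g.1 1 0 ≠ 0) :
    g = upper (g.1 0 0 / g.1 1 0) * weyl (g.1 1 0) hc * upper (g.1 1 1 / g.1 1 0) := by
  have hd := det_eq_one g
  refine sl_ext ?_ ?_ ?_ ?_ <;>
    simp [sl_mul_apply, upper00, upper01, upper10, upper11, weyl00, weyl01, weyl10, weyl11]
  · field_simp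
  · field_simp; linear_combination -hd
  · field_simp

theorem weyl_conj (c : F) (hc : c ≠ 0) (x : F) : weyl c hc * upper x * (weyl c hc)⁻¹ = lower (-(c * x * c)) := by
  rw [mul_inv_eq_iff_eq_mul]
  refine sl_ext ?_ ?_ ?_ ?_ <;>
    simp [sl_mul_apply, upper00, upper01, upper10, upper11, lower00, lower01, lower10, lower11, weyl00, weyl01, weyl10, weyl11]
  field_simp

/-- A subgroup containing the upper unitriangular group and an element outside the Borel subgroup is everything. -/
theorem eq_top_of_upper_of_lowerLeft {H : Subgroup S₂} (hu : ∀ t, upper t ∈ H) {g : S₂} (hg : g ∈ H)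
    (hc : g.1 1 0 ≠ 0) : H = ⊤ := by
  have hw : weyl (g.1 1 0) hc ∈ H := by
    have h1 := mul_mem (mul_mem (inv_mem (hu (g.1 0 0 / g.1 1 0))) hg) (inv_mem (hu (g.1 1 1 / g.1 1 0)))
    have he : (upper (g.1 0 0 / g.1 1 0))⁻¹ * g * (upper (g.1 1 1 / g.1 1 0))⁻¹ = weyl (g.1 1 0) hc := by
      calc _ = (upper (g.1 0 0 / g.1 1 0))⁻¹ * (upper (g.1 0 0 / g.1 1 0) * weyl (g.1 1 0) hc *
            upper (g.1 1 1 / g.1 1 0)) * (upper (g.1 1 1 / g.1 1 0))⁻¹ := by rw [← eq_upper_weyl_upper hc]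
        _ = _ := by group
    rwa [he] at h1
  refine closure_elementary_eq_top hu fun t => ?_
  have h1 := mul_mem (mul_mem hw (hu (-t / (g.1 1 0 * g.1 1 0)))) (inv_mem hw)
  rw [weyl_conj] at h1
  convert h1 using 2
  field_simp

end SL2

/-- `PSL₂(q)` has these properties. -/
theorem likeL2_psl {F : Type*} [Field F] [Fintype F] {p n : ℕ} [hp : Fact p.Prime] (hn : 1 ≤ n)
    (hF : Fintype.card F = p ^ n) : LikeL2 p n (Matrix.ProjectiveSpecialLinearGroup (Fin 2) F) := by
  classical
  haveI : CharP F p := charP_of_card_eq_prime_pow hF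
  set π : Matrix.SpecialLinearGroup (Fin 2) F →* Matrix.ProjectiveSpecialLinearGroup (Fin 2) F :=
    QuotientGroup.mk' _ with hπ
  have hπs : Function.Surjective π := QuotientGroup.mk'_surjective _
  have hcen : ∀ z ∈ Subgroup.center (Matrix.SpecialLinearGroup (Fin 2) F),
      z.1 0 1 = 0 ∧ z.1 1 0 = 0 ∧ z.1 0 0 = z.1 1 1 := by
    intro x hx
    have h1 := congrArg Subtype.val (Subgroup.mem_center_iff.1 hx (upper 1))
    have h2 := congrArg Subtype.val (Subgroup.mem_center_iff.1 hx (lower 1))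
    have a00 := congrFun (congrFun h1 0) 0
    have a01 := congrFun (congrFun h1 0) 1
    have b00 := congrFun (congrFun h2 0) 0
    simp [Matrix.mul_apply, Fin.sum_univ_two, upper00, upper01, upper10, upper11, lower00, lower01,
      lower10, lower11] at a00 a01 b00
    exact ⟨b00, a00, by linear_combination -a01⟩
  have hker : ∀ {x}, π x = 1 ↔ x ∈ Subgroup.center _ := QuotientGroup.eq_one_iff _
  set U := (π.comp upperHom).range with hU
  have huU : ∀ t, π (upper t) ∈ U := fun t => ⟨Multiplicative.ofAdd t, rfl⟩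
  have hUcard : Nat.card U = p ^ n := by
    rw [hU, ← Nat.card_congr (MonoidHom.ofInjective ?_).toEquiv, Nat.card_congr Multiplicative.toAdd,
      Nat.card_eq_fintype_card, hF]
    rw [← MonoidHom.ker_eq_bot_iff, eq_bot_iff]
    intro t ht
    rw [MonoidHom.mem_ker, MonoidHom.comp_apply, hker] at ht
    exact (hcen _ ht).1
  have hUp : IsPGroup p U := IsPGroup.of_card hUcard
  have hUmax : ∀ P : Subgroup _, IsPGroup p P → U ≤ P → P = U := by
    intro P hP hle
    by_contra hne
    obtain ⟨x, hx, hxU⟩ := SetLike.exists_of_lt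
      (show U < P ⊓ normalizer (U : Set _) from CfsgLib.LocalEven.RankOne.lt_inf_normalizer hP
        (lt_of_le_of_ne hle (Ne.symm hne)))
    obtain ⟨g, rfl⟩ := hπs x
    -- `g` is upper triangular
    have hg10 : g.1 1 0 = 0 := by
      obtain ⟨t, ht⟩ := (mem_normalizer_iff.1 hx.2 _).1 (huU 1)
      have h1 : (g * upper 1)⁻¹ * (upper (Multiplicative.toAdd t) * g) ∈ Subgroup.center _ := by
        rw [← hker, map_mul, map_inv, inv_mul_eq_one, map_mul, map_mul]
        exact (eq_mul_inv_iff_mul_eq.1 ht).symm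
      set y := (g * upper 1)⁻¹ * (upper (Multiplicative.toAdd t) * g) with hy
      obtain ⟨y01, y10, y11⟩ := hcen y h1
      have e : upper (Multiplicative.toAdd t) * g = g * upper 1 * y := by rw [hy, mul_inv_cancel_left]
      have e00 := congrArg (fun z : Matrix.SpecialLinearGroup (Fin 2) F => z.1 0 0) e
      have e10 := congrArg (fun z : Matrix.SpecialLinearGroup (Fin 2) F => z.1 1 0) e
      have e11 := congrArg (fun z : Matrix.SpecialLinearGroup (Fin 2) F => z.1 1 1) e
      simp [sl_mul_apply, upper00, upper01, upper10, upper11, y01, y10] at e00 e10 e11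
      by_contra hc
      have hy1 : y.1 0 0 = 1 := by
        by_contra hne1
        exact hne1 (mul_left_cancel₀ hc (by linear_combination -e10))
      rw [← y11, hy1] at e11
      exact hc (by linear_combination -e11)
    have hd := det_eq_one g
    rw [hg10, mul_zero, sub_zero] at hd
    -- the diagonal has `p`-power order up to sign
    obtain ⟨k, hk⟩ := hP ⟨_, hx.1⟩
    have hk' : g ^ p ^ k ∈ Subgroup.center _ := by
      rw [← hker, map_pow]; exact congrArg Subtype.val hk
    have hpow : ∀ j : ℕ, (g ^ j).1 1 0 = 0 ∧ (g ^ j).1 0 0 = (g.1 0 0) ^ j ∧ (g ^ j).1 1 1 = (g.1 1 1) ^ j := by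
      intro j
      induction j with
      | zero => simp
      | succ j ih =>
        obtain ⟨i1, i2, i3⟩ := ih
        rw [pow_succ]
        refine ⟨?_, ?_, ?_⟩ <;> simp [sl_mul_apply, i1, i2, i3, hg10, pow_succ]
    have hdiag : g.1 0 0 = g.1 1 1 := by
      obtain ⟨-, -, e⟩ := hcen _ hk'
      rw [(hpow _).2.1, (hpow _).2.2] at e
      exact (iterateFrobenius F p k).injective (by simpa [iterateFrobenius_def] using e)
    refine hxU ?_
    have hsq : g.1 0 0 * g.1 0 0 = 1 := by
      rw [← hdiag] at hd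
      exact hd
    have he : g = scalarM (g.1 0 0) hsq * upper (g.1 0 0 * g.1 0 1) := by
      refine sl_ext ?_ ?_ ?_ ?_ <;>
        simp [sl_mul_apply, upper00, upper01, upper10, upper11, scalarM00, scalarM01, scalarM10, scalarM11,
          hg10, ← hdiag, ← mul_assoc, hsq]
    rw [he, map_mul, hker.2 (scalarM_mem_center _ hsq), one_mul]
    exact huU _
  have hUsyl : ∀ P : Sylow p (Matrix.ProjectiveSpecialLinearGroup (Fin 2) F),
      ∃ g, (P : Subgroup (Matrix.ProjectiveSpecialLinearGroup (Fin 2) F)) = U.map (MulAut.conj g).toMonoidHom := by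
    intro P
    obtain ⟨P0, hP0⟩ := hUp.exists_le_sylow
    obtain ⟨g, rfl⟩ := MulAction.exists_smul_eq (Matrix.ProjectiveSpecialLinearGroup (Fin 2) F) P0 P
    exact ⟨g, by rw [Sylow.coe_subgroup_smul, ← hUmax _ P0.2 hP0]; rfl⟩
  have hUne : U ≠ ⊤ := by
    intro he
    obtain ⟨t, ht⟩ : π (lower 1) ∈ U := he ▸ mem_top _
    have h1 : (upper (Multiplicative.toAdd t))⁻¹ * lower 1 ∈ Subgroup.center _ := by
      rw [← hker, map_mul, map_inv, inv_mul_eq_one]; exact ht
    set z := (upper (Multiplicative.toAdd t))⁻¹ * lower 1 with hz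
    obtain ⟨z01, z10, z11⟩ := hcen z h1
    have e := congrArg (fun y : Matrix.SpecialLinearGroup (Fin 2) F => y.1 1 0)
      (show upper (Multiplicative.toAdd t) * z = lower 1 by rw [hz, mul_inv_cancel_left])
    simp [sl_mul_apply, upper00, upper01, upper10, upper11, lower10, z10] at e
  have htop : ∀ H : Subgroup (Matrix.ProjectiveSpecialLinearGroup (Fin 2) F), U ≤ H →
      ∀ g, π g ∈ H → g.1 1 0 ≠ 0 → H = ⊤ := by
    intro H hle g hg hc
    rw [← map_comap_eq_self_of_surjective hπs H,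
      eq_top_of_upper_of_lowerLeft (H := H.comap π) (fun t => hle (huU t)) hg hc, map_top_of_surjective π hπs]
  have conj_sup : ∀ g (A B : Subgroup (Matrix.ProjectiveSpecialLinearGroup (Fin 2) F)), A ⊔ B = ⊤ →
      A.map (MulAut.conj g).toMonoidHom ⊔ B.map (MulAut.conj g).toMonoidHom = ⊤ := by
    intro g A B h
    rw [← Subgroup.map_sup, h, map_top_of_surjective _ (MulAut.conj g).surjective]
  have hconjN : ∀ (g : Matrix.ProjectiveSpecialLinearGroup (Fin 2) F) (N : Subgroup _), N.Normal →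
      N.map (MulAut.conj g).toMonoidHom = N := fun g N hN =>
    mem_normalizer_iff_map_conj_eq.1 (by rw [normalizer_eq_top_iff.2 hN]; trivial)
  refine ⟨fun P => ?_, fun P x hx y hy => ?_, fun P x hx => ?_, fun P N hN hne => ?_, fun P he => ?_,
    fun P => ?_, fun hn2 => ?_⟩
  · obtain ⟨g, hg⟩ := hUsyl P
    rw [hg, card_map_of_injective (MulAut.conj g).injective, hUcard]
  · obtain ⟨g, hg⟩ := hUsyl P
    rw [hg] at hx hy
    obtain ⟨_, ⟨s, rfl⟩, rfl⟩ := hx
    obtain ⟨_, ⟨t, rfl⟩, rfl⟩ := hy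
    rw [← map_mul, ← map_mul, ← map_mul, ← map_mul, mul_comm]
  · obtain ⟨g, hg⟩ := hUsyl P
    rw [hg] at hx
    obtain ⟨_, ⟨s, rfl⟩, rfl⟩ := hx
    rw [← map_pow, ← map_pow, show s ^ p = 1 from Multiplicative.toAdd.injective (by simp), map_one, map_one]
  · obtain ⟨g, hg⟩ := hUsyl P
    rw [hg, ← hconjN g N hN]
    refine conj_sup g N U ?_
    obtain ⟨⟨x, hx⟩, hx0⟩ := N.ne_bot_iff_exists_ne_one.1 hne
    have hx1 : x ≠ 1 := fun e => hx0 (Subtype.ext e)
    obtain ⟨y, rfl⟩ := hπs x
    suffices h : ∃ z, π z ∈ N ∧ z.1 1 0 ≠ 0 by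
      obtain ⟨z, hz, hc⟩ := h
      exact htop _ le_sup_right z (mem_sup_left hz) hc
    by_contra hall
    push Not at hall
    have hl : y.1 0 1 = 0 := by
      have h1 := hall (weyl 1 one_ne_zero * y * (weyl 1 one_ne_zero)⁻¹)
        (by rw [map_mul, map_mul, map_inv]; exact hN.conj_mem _ hx _)
      simp [sl_mul_apply, weyl00, weyl01, weyl10, weyl11, Matrix.SpecialLinearGroup.coe_inv, Matrix.adjugate_fin_two] at h1
      exact h1
    have h10 := hall y hx
    have hd' : y.1 0 0 = y.1 1 1 := by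
      have h1 := hall (lower 1 * y * (lower 1)⁻¹)
        (by rw [map_mul, map_mul, map_inv]; exact hN.conj_mem _ hx _)
      simp [sl_mul_apply, lower00, lower01, lower10, lower11, Matrix.SpecialLinearGroup.coe_inv,
        Matrix.adjugate_fin_two, hl, h10] at h1
      linear_combination h1
    refine hx1 (hker.2 (Subgroup.mem_center_iff.2 fun z => ?_))
    refine sl_ext ?_ ?_ ?_ ?_ <;> simp [sl_mul_apply, hl, h10, hd', mul_comm]
  · obtain ⟨g, hg⟩ := hUsyl P
    rw [hg] at he
    exact hUne (map_injective (MulAut.conj g).injective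
      (he.trans (map_top_of_surjective _ (MulAut.conj g).surjective).symm))
  · obtain ⟨g, hg⟩ := hUsyl P
    refine ⟨g * π (weyl 1 one_ne_zero) * g⁻¹, ?_⟩
    have h1 : U ⊔ U.map (MulAut.conj (π (weyl 1 one_ne_zero))).toMonoidHom = ⊤ := by
      refine htop _ le_sup_left (lower (-1)) (mem_sup_right ⟨_, huU 1, ?_⟩) (by simp [lower10])
      show π _ * π _ * (π _)⁻¹ = _
      rw [← map_inv, ← map_mul, ← map_mul, weyl_conj, one_mul, one_mul]
    have h2 := conj_sup g _ _ h1
    rw [hg]
    convert h2 using 2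
    rw [map_map, map_map]
    congr 1
    ext x
    simp [mul_assoc]
  · rcases eq_or_ne p 2 with rfl | hp2
    · obtain ⟨r, a, hr, hr2, hmin, h⟩ := psl2_pair (F := F) hF hn2
      exact ⟨r, a, hr, hr2, hmin, fun u hu => h u (by rw [← pow_two]; exact hu)⟩
    · obtain ⟨r, hr, hrp, hmin, h⟩ := psl2_pair_odd (F := F) hp2 hF hn2
      exact ⟨r, 0, hr, hrp, by simpa using hmin, by simpa using h⟩

end CfsgLib.LocalEven.RankOne
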