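import Cfsg.Agent.Lib.LocalEven.RankOne.Baumann

/-!
The hypotheses from a quotient isomorphic to `PSL₂(q)`.
-/

set_option autoImplicit false

namespace CfsgLib.LocalEven.RankOne

open Cfsg Subgroup

variable {G : Type*} [Group G] [Finite G] {p : ℕ} [Fact p.Prime]

theorem hyp_of_equiv (S : Sylow p G) (hE₁ : Subgroup.centralizer (Cfsg.pCore p G : Set G) ≤ Cfsg.pCore p G)
    (hE₂ : ∃! M : Subgroup G, IsCoatom M ∧ (S : Subgroup G) ≤ M) (K : Subgroup G) [K.Normal] (F : Type) [Field F]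
    [Fintype F] (n : ℕ) (hn : 1 ≤ n) (hF : Fintype.card F = p ^ n)
    (hE₃ : Nonempty (G ⧸ K ≃* Matrix.ProjectiveSpecialLinearGroup (Fin 2) F)) : Hyp n S K :=
  let ⟨e⟩ := hE₃
  ⟨hE₁, hE₂, LikeL2.of_equiv e (likeL2_psl hn hF), hn⟩

/-- A Sylow subgroup of a normal subgroup. -/
theorem exists_sylow_eq_subgroupOf (S : Sylow p G) {P L : Subgroup G} [L.Normal] (e : (S : Subgroup G) ⊓ L = P) :
    ∃ R : Sylow p ↥L, (R : Subgroup ↥L) = P.subgroupOf L := by
  have hi := CfsgLib.LocalEven.ZJFusion.not_dvd_relIndex_inf (p := p) (K := ⊤) (C := L) S.2 le_top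
    (by rw [relIndex_top_right]; exact S.not_dvd_index) le_top (by rw [normalizer_eq_top])
  rw [e] at hi
  have hP : IsPGroup p P := S.2.to_le (e ▸ inf_le_left)
  exact ⟨IsPGroup.toSylow (hP.of_equiv (subgroupOfEquivOfLe (e ▸ inf_le_right)).symm) hi, IsPGroup.toSylow_coe _ _⟩

end CfsgLib.LocalEven.RankOne
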