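import Cfsg.Agent.Lib.LocalEven.RankOne.CentrallyLarge
import Cfsg.Agent.S3007

/-!
Pushing up with the join of minimal centrally large subgroups and with the join of their Frattini subgroups.
-/

set_option autoImplicit false

namespace CfsgLib.LocalEven.RankOne

open Cfsg Subgroup
open CfsgLib.LocalEven
open CfsgLib.PStab
open CfsgLib.Fusion (conjSub conj_mem_conjSub conjSub_eq_iff_mem_normalizer card_conjSub conjSub_mono)
open scoped commutatorElement

section PGroupFacts

variable {P : Type*} [Group P] [Finite P]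

theorem card_czOf (T : Subgroup P) : Nat.card (center ↥T) = Nat.card (czOf T) := card_center_eq T

theorem measure_le (T : Subgroup P) : Nat.card T * Nat.card (czOf T) ≤ maxCentralProduct P := by
  rw [maxCentralProduct_eq]
  exact (Nat.mul_le_mul_left _ (card_le_of_le inf_le_right)).trans (cdMeasure_le T)

theorem isCL_of_measure {T₀ T : Subgroup P} (h₀ : IsCentrallyLarge T₀)
    (hle : Nat.card T₀ * Nat.card (czOf T₀) ≤ Nat.card T * Nat.card (czOf T)) : IsCentrallyLarge T := by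
  show Nat.card T * Nat.card (center ↥T) = _
  rw [card_czOf]
  refine le_antisymm (measure_le T) (le_trans ?_ hle)
  rw [← card_czOf]
  exact le_of_eq h₀.symm

variable {p : ℕ} [Fact p.Prime]

theorem isMCL_of_card (hP : IsPGroup p P) {T₀ T : Subgroup P} (h₀ : IsMinimalCentrallyLarge T₀)
    (hT : IsCentrallyLarge T) (hle : Nat.card T ≤ Nat.card T₀) : IsMinimalCentrallyLarge T := by
  obtain ⟨U, hUT, hU⟩ := exists_minimalCentrallyLarge hT
  have h1 : Nat.card T ≤ Nat.card U :=
    hle.trans (Cfsg.Agent.S3007.result P hP T₀ U h₀ hU).2.2.1.le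
  rwa [← eq_of_le_of_card_ge hUT h1]

end PGroupFacts

variable {G : Type*} [Group G] [Finite G] {p n : ℕ} [hp : Fact p.Prime]
variable {S : Sylow p G} {K : Subgroup G} [K.Normal]

/-- A subgroup of the Sylow subgroup inside the group. -/
abbrev inG (T : Subgroup ↥(S : Subgroup G)) : Subgroup G := T.map (S : Subgroup G).subtype

omit [Finite G] hp in
theorem inG_le (T : Subgroup ↥(S : Subgroup G)) : inG T ≤ (S : Subgroup G) := map_subtype_le T

omit [Finite G] hp in
theorem card_inG (T : Subgroup ↥(S : Subgroup G)) :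
    Nat.card (inG T) = Nat.card T ∧ Nat.card (czOf (inG T)) = Nat.card (czOf T) :=
  ⟨card_map_of_injective (S : Subgroup G).subtype_injective,
    by rw [← czOf_map (S : Subgroup G).subtype_injective, card_map_of_injective (S : Subgroup G).subtype_injective]⟩

omit [Finite G] hp in
theorem inG_subgroupOf {R : Subgroup G} (hR : R ≤ (S : Subgroup G)) : inG (R.subgroupOf (S : Subgroup G)) = R :=
  map_subgroupOf_eq_of_le hR

theorem inG_centralizer {T : Subgroup ↥(S : Subgroup G)} (hT : IsCentrallyLarge T) :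
    (S : Subgroup G) ⊓ centralizer (inG T : Set G) ≤ inG T := fun x hx =>
  ⟨⟨x, hx.1⟩, (isCentrallyLarge_iff.1 hT).2 (mem_centralizer_iff.2 fun t ht =>
    Subtype.ext (mem_centralizer_iff.1 hx.2 _ (mem_map_of_mem _ ht))), rfl⟩

/-- The replacement inside the Sylow subgroup. -/
def pushT (K : Subgroup G) (T : Subgroup ↥(S : Subgroup G)) : Subgroup ↥(S : Subgroup G) :=
  (pushR S K (inG T)).subgroupOf (S : Subgroup G)

theorem Hyp.inG_pushT (h : Hyp n S K) (T : Subgroup ↥(S : Subgroup G)) :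
    inG (pushT K T) = pushR S K (inG T) :=
  inG_subgroupOf ((h.pushR_le (inG_le T)).trans (CfsgLib.Cores.pCore_le_sylow S))

theorem Hyp.push_max (h : Hyp n S K) {T : Subgroup ↥(S : Subgroup G)} (hT : IsCentrallyLarge T) :
    Nat.card (pushR S K (inG T)) * Nat.card (czOf (pushR S K (inG T))) ≤
      Nat.card (inG T) * Nat.card (czOf (inG T)) := by
  rw [← h.inG_pushT T, (card_inG _).1, (card_inG _).2, (card_inG _).1, (card_inG _).2, ← card_czOf T]
  exact (measure_le _).trans (le_of_eq hT.symm)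

theorem Hyp.exists_MCL_inside (h : Hyp n S K) (hZ : ¬ zS S ≤ center G)
    (hS : (S : Subgroup G) ≤ centralizer (zjGen 0 (S : Subgroup G) : Set G)) :
    ∃ T : Subgroup ↥(S : Subgroup G), IsMinimalCentrallyLarge T ∧ inG T ≤ pCore p G := by
  obtain ⟨Q₀, hQ₀⟩ := exists_centrallyLarge (G := ↥(S : Subgroup G))
  suffices hU : ∃ U : Subgroup ↥(S : Subgroup G), IsCentrallyLarge U ∧ inG U ≤ pCore p G by
    obtain ⟨U, hU, hUX⟩ := hU
    obtain ⟨T, hTU, hT⟩ := exists_minimalCentrallyLarge hU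
    exact ⟨T, hT, (map_mono hTU).trans hUX⟩
  by_cases hK : inG Q₀ ≤ K
  · exact ⟨Q₀, hQ₀, fun x hx => h.inf_eq.le ⟨inG_le Q₀ hx, hK hx⟩⟩
  refine ⟨pushT K Q₀, isCL_of_measure hQ₀ ?_, by rw [h.inG_pushT]; exact h.pushR_le (inG_le Q₀)⟩
  have h1 := (h.push_measure hZ hS (inG_le Q₀) (inG_centralizer hQ₀) hK (h.push_max hQ₀)).1
  rwa [← h.inG_pushT Q₀, (card_inG _).1, (card_inG _).2, (card_inG _).1, (card_inG _).2] at h1

/-- Minimal centrally large subgroups outside `O_p(G)`. -/
theorem Hyp.MCL_outside (h : Hyp n S K) (hZ : ¬ zS S ≤ center G)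
    (hS : (S : Subgroup G) ≤ centralizer (zjGen 0 (S : Subgroup G) : Set G))
    {T : Subgroup ↥(S : Subgroup G)} (hT : IsMinimalCentrallyLarge T) (hTK : ¬ inG T ≤ K) :
    ¬ czOf (inG T) ≤ K ∧ (∀ r ∈ inG T, ∃ x ∈ inG T ⊓ K, ∃ w ∈ czOf (inG T), r = x * w) := by
  obtain ⟨T₁, hT₁, hT₁X⟩ := h.exists_MCL_inside hZ hS
  have hdec : ∀ r ∈ inG T, ∃ x ∈ inG T ⊓ K, ∃ w ∈ czOf (inG T), r = x * w := by
    rintro _ ⟨r, hr, rfl⟩
    have h1 := (Cfsg.Agent.S3007.result _ S.2 T T₁ hT hT₁).1
    rw [sup_comm] at h1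
    obtain ⟨w, hw, x, hx, e⟩ := CfsgLib.Solvable.exists_mul_of_mem_sup (K := T ⊓ centralizer (T : Set _))
      (A := T ⊓ T₁) (fun x hx => CfsgLib.Solvable.mem_normalizer_of_conj_mem fun w hw => by
        rw [mem_centralizer_iff.1 hw.2 x hx.1, mul_inv_cancel_right]; exact hw) (h1.ge hr)
    refine ⟨x, ⟨mem_map_of_mem _ hx.1, h.pCore_le (hT₁X (mem_map_of_mem _ hx.2))⟩, w, ?_, ?_⟩
    · exact (czOf_map (S : Subgroup G).subtype_injective T).le (mem_map_of_mem _ hw)
    · rw [e, ← mem_centralizer_iff.1 hw.2 x hx.1]; rfl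
  exact ⟨fun hW => hTK fun r hr => by
    obtain ⟨x, hx, w, hw, rfl⟩ := hdec r hr
    exact mul_mem hx.2 (hW hw), hdec⟩

theorem Hyp.conj_MCL (h : Hyp n S K) {T : Subgroup ↥(S : Subgroup G)} (hT : IsMinimalCentrallyLarge T)
    (hTX : inG T ≤ pCore p G) (g : G) :
    ∃ T' : Subgroup ↥(S : Subgroup G), IsMinimalCentrallyLarge T' ∧ inG T' = conjSub g (inG T) ∧
      Nat.card (omegaOne p (czOf T')) = Nat.card (omegaOne p (czOf T)) := by
  have hinj := (MulAut.conj g).injective
  have hle : conjSub g (inG T) ≤ pCore p G := by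
    rintro _ ⟨x, hx, rfl⟩
    exact (inferInstance : (pCore p G).Normal).conj_mem x (hTX hx) g
  set T' := (conjSub g (inG T)).subgroupOf (S : Subgroup G)
  have e : inG T' = conjSub g (inG T) := inG_subgroupOf (hle.trans (CfsgLib.Cores.pCore_le_sylow S))
  have hcz : czOf (inG T') = (czOf (inG T)).map (MulAut.conj g).toMonoidHom := by
    rw [e, czOf_map (f := (MulAut.conj g).toMonoidHom) hinj]; rfl
  have h1 : Nat.card T' = Nat.card T := by
    rw [← (card_inG T').1, e, card_conjSub, (card_inG T).1]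
  have h2 : Nat.card (czOf T') = Nat.card (czOf T) := by
    rw [← (card_inG T').2, hcz, card_map_of_injective hinj, (card_inG T).2]
  refine ⟨T', isMCL_of_card S.2 hT (isCL_of_measure hT.1 (by rw [h1, h2])) h1.le, e, ?_⟩
  have h3 : ∀ U : Subgroup ↥(S : Subgroup G),
      Nat.card (omegaOne p (czOf U)) = Nat.card (omegaOne p (czOf (inG U))) := fun U => by
    rw [← czOf_map (S : Subgroup G).subtype_injective, ← omegaOne_map (S : Subgroup G).subtype_injective,
      card_map_of_injective (S : Subgroup G).subtype_injective]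
  rw [h3, h3, hcz, ← omegaOne_map (f := (MulAut.conj g).toMonoidHom) hinj, card_map_of_injective hinj]

theorem commutator_inG (T : Subgroup ↥(S : Subgroup G)) :
    ⁅inG T, inG T⁆ = (⁅T, T⁆).map (S : Subgroup G).subtype := (map_commutator _ _ _).symm

theorem le_phiOf {R : Subgroup G} (hR : IsPGroup p R) :
    ⁅R, R⁆ ≤ phiOf R ∧ ∀ x ∈ R, x ^ p ∈ phiOf R := by
  refine ⟨commutator_le.2 fun x hx y hy => ⟨⁅(⟨x, hx⟩ : R), ⟨y, hy⟩⁆, ?_, rfl⟩,
    fun x hx => ⟨(⟨x, hx⟩ : R) ^ p, CfsgLib.PGroup.pow_mem_frattini hR _, rfl⟩⟩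
  exact CfsgLib.PGroup.commutator_le_frattini hR (commutator_mem_commutator (mem_top _) (mem_top _))

theorem phiOf_le {R N : Subgroup G} (hc : ⁅R, R⁆ ≤ N) (hp' : ∀ x ∈ R, x ^ p ∈ N) : phiOf R ≤ N := by
  refine map_le_iff_le_comap.2 (CfsgLib.Solvable.frattini_le_of_elementary (p := p) _ ?_ fun x => hp' x x.2)
  rw [_root_.commutator_def, commutator_le]
  exact fun x _ y _ => hc (commutator_mem_commutator x.2 y.2)

theorem phiOf_inG (T : Subgroup ↥(S : Subgroup G)) :
    ((frattini ↥T).map T.subtype).map (S : Subgroup G).subtype = phiOf (inG T) :=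
  phiOf_map (S : Subgroup G).subtype_injective T

theorem omega_le_max (T : Subgroup ↥(S : Subgroup G)) (hT : IsMinimalCentrallyLarge T) :
    Nat.card (omegaOne p (czOf T)) ≤ maxOmegaCenterOfMinimalCL p ↥(S : Subgroup G) :=
  le_csSup ⟨Nat.card ↥(S : Subgroup G), by rintro k ⟨U, -, rfl⟩; exact card_le_card_group _⟩
    ⟨T, hT, rfl⟩

theorem exists_omega_max :
    ∃ T : Subgroup ↥(S : Subgroup G), IsMinimalCentrallyLarge T ∧
      Nat.card (omegaOne p (czOf T)) = maxOmegaCenterOfMinimalCL p ↥(S : Subgroup G) := by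
  obtain ⟨Q₀, hQ₀⟩ := exists_centrallyLarge (G := ↥(S : Subgroup G))
  obtain ⟨Q, -, hQ⟩ := exists_minimalCentrallyLarge hQ₀
  exact Nat.sSup_mem (s := {k : ℕ | ∃ Q : Subgroup ↥(S : Subgroup G), IsMinimalCentrallyLarge Q ∧
    Nat.card ↥(omegaOneCenter p Q) = k}) ⟨_, Q, hQ, rfl⟩
    ⟨Nat.card ↥(S : Subgroup G), by rintro k ⟨U, -, rfl⟩; exact card_le_card_group _⟩

/-- The centre or the Frattini join is normal. -/
theorem Hyp.frattini_join_normal (h : Hyp n S K)
    (hS : (S : Subgroup G) ≤ centralizer (zjGen 0 (S : Subgroup G) : Set G)) :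
    (zS S).Normal ∨ ((frattiniOfMinimalCLJoin p ↥(S : Subgroup G)).map (S : Subgroup G).subtype).Normal := by
  by_cases hZ : zS S ≤ center G
  · exact Or.inl (normal_of_le_center hZ)
  right
  set N := (frattiniOfMinimalCLJoin p ↥(S : Subgroup G)).map (S : Subgroup G).subtype with hN
  have hmem : ∀ T : Subgroup ↥(S : Subgroup G), IsMinimalCentrallyLarge T →
      Nat.card (omegaOne p (czOf T)) = maxOmegaCenterOfMinimalCL p ↥(S : Subgroup G) → phiOf (inG T) ≤ N := by
    intro T hT hΩ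
    rw [← phiOf_inG, hN]
    exact map_mono (le_iSup (fun Q : {Q : Subgroup ↥(S : Subgroup G) // IsMinimalCentrallyLarge Q ∧
      Nat.card ↥(omegaOneCenter p Q) = maxOmegaCenterOfMinimalCL p ↥(S : Subgroup G)} =>
        (frattini ↥(Q : Subgroup ↥(S : Subgroup G))).map (Q : Subgroup ↥(S : Subgroup G)).subtype) ⟨T, hT, hΩ⟩)
  have hconj : ∀ g : G, conjSub g N ≤ N := by
    intro g
    show N.map (MulAut.conj g).toMonoidHom ≤ N
    conv_lhs => rw [hN, frattiniOfMinimalCLJoin, Subgroup.map_iSup, Subgroup.map_iSup]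
    refine iSup_le fun ⟨T, hT, hΩ⟩ => ?_
    rw [phiOf_inG]
    obtain ⟨T₁, hT₁, hΩ₁, hT₁X, hle⟩ : ∃ T₁ : Subgroup ↥(S : Subgroup G), IsMinimalCentrallyLarge T₁ ∧
        Nat.card (omegaOne p (czOf T₁)) = maxOmegaCenterOfMinimalCL p ↥(S : Subgroup G) ∧
        inG T₁ ≤ pCore p G ∧ phiOf (inG T) ≤ phiOf (inG T₁) := by
      by_cases hTK : inG T ≤ K
      · exact ⟨T, hT, hΩ, fun x hx => h.inf_eq.le ⟨inG_le T hx, hTK hx⟩, le_rfl⟩
      obtain ⟨hW, hdec⟩ := h.MCL_outside hZ hS hT hTK
      have hmax := h.push_max hT.1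
      obtain ⟨hge, heq⟩ := h.push_measure hZ hS (inG_le T) (inG_centralizer hT.1) hTK hmax
      obtain ⟨hcard, -, -, -⟩ := heq hW
      rw [← h.inG_pushT T, (card_inG _).1, (card_inG _).2, (card_inG _).1, (card_inG _).2] at hge
      have hM : IsMinimalCentrallyLarge (pushT K T) := by
        refine isMCL_of_card S.2 hT (isCL_of_measure hT.1 hge) ?_
        rw [← (card_inG (pushT K T)).1, h.inG_pushT, hcard, (card_inG T).1]
      have h3 : ∀ U : Subgroup ↥(S : Subgroup G),
          Nat.card (omegaOne p (czOf U)) = Nat.card (omegaOne p (czOf (inG U))) := fun U => by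
        rw [← czOf_map (S : Subgroup G).subtype_injective, ← omegaOne_map (S : Subgroup G).subtype_injective,
          card_map_of_injective (S : Subgroup G).subtype_injective]
      have hΩ' : Nat.card (omegaOne p (czOf T)) = maxOmegaCenterOfMinimalCL p ↥(S : Subgroup G) := hΩ
      have hpow := h.push_pow hZ hS (inG_le T) (inG_centralizer hT.1) hTK hmax hW hdec (by
        rw [← h.inG_pushT T, ← h3, ← h3, hΩ']; exact omega_le_max _ hM)
      have hpre : (inG (pushT K T)) = pushR S K (inG T) := h.inG_pushT T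
      refine ⟨pushT K T, hM, le_antisymm (omega_le_max _ hM) ?_, by rw [hpre]; exact h.pushR_le (inG_le T), ?_⟩
      · -- the omega of the replacement is at least as large
        rw [← hΩ', h3, h3]
        rw [hpre]
        exact h.push_omega hZ hS (inG_le T) (inG_centralizer hT.1) hTK hmax hW
      · have hPG : IsPGroup p ↥(inG (pushT K T)) := S.2.to_le (inG_le _)
        refine phiOf_le (p := p) ?_ fun r hr => ?_
        · rw [commutator_inG, (Cfsg.Agent.S3007.result _ S.2 T (pushT K T) hT hM).2.1, ← commutator_inG]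
          exact (le_phiOf hPG).1
        · obtain ⟨x, hx, e⟩ := hpow r hr
          rw [e]
          exact (le_phiOf hPG).2 x (by rw [hpre]; exact mem_sup_left hx)
    obtain ⟨T', hT', e, hΩ'⟩ := h.conj_MCL hT₁ hT₁X g
    refine (map_mono hle).trans (le_trans ?_ (hmem T' hT' (hΩ'.trans hΩ₁)))
    rw [e, phiOf_map (f := (MulAut.conj g).toMonoidHom) (MulAut.conj g).injective]
    exact le_rfl
  exact ⟨fun x hx g => hconj g (conj_mem_conjSub hx)⟩

theorem elementary_of_frattiniJoin
    (h0 : frattiniOfMinimalCLJoin p ↥(S : Subgroup G) = ⊥) :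
    (∀ Q : Subgroup ↥(S : Subgroup G), IsMinimalCentrallyLarge Q ↔ Q ∈ maxAbelianSubgroups ↥(S : Subgroup G)) ∧
      ∃ A ∈ maxAbelianSubgroups ↥(S : Subgroup G), IsElementaryAbelian p A := by
  obtain ⟨T, hT, hΩ⟩ := exists_omega_max (S := S)
  have h1 : (frattini ↥T).map T.subtype ≤ ⊥ := h0 ▸ le_iSup (fun Q : {Q : Subgroup ↥(S : Subgroup G) //
      IsMinimalCentrallyLarge Q ∧
      Nat.card ↥(omegaOneCenter p Q) = maxOmegaCenterOfMinimalCL p ↥(S : Subgroup G)} =>
        (frattini ↥(Q : Subgroup ↥(S : Subgroup G))).map (Q : Subgroup ↥(S : Subgroup G)).subtype) ⟨T, hT, hΩ⟩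
  have hΦ : frattini ↥T = ⊥ := (map_eq_bot_iff_of_injective _ T.subtype_injective).1 (le_bot_iff.1 h1)
  have hTp : IsPGroup p T := S.2.to_subgroup T
  have hab : IsMulCommutative T := ⟨⟨fun a b => commutatorElement_eq_one_iff_mul_comm.1 (mem_bot.1
    (hΦ.le (CfsgLib.PGroup.commutator_le_frattini hTp (commutator_mem_commutator (mem_top a) (mem_top b)))))⟩⟩
  have hall := (Cfsg.Agent.S3007.result _ S.2 T T hT hT).2.2.2.2 hab
  exact ⟨hall, T, (hall T).1 hT, hab, fun a ha =>
    congrArg Subtype.val (mem_bot.1 (hΦ.le (CfsgLib.PGroup.pow_mem_frattini hTp (⟨a, ha⟩ : T))))⟩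

/-- The centre meets the common derived subgroup in a central subgroup, or the join is normal. -/
theorem Hyp.MCL_join_normal (h : Hyp n S K)
    (hS : (S : Subgroup G) ≤ centralizer (zjGen 0 (S : Subgroup G) : Set G))
    {Q : Subgroup ↥(S : Subgroup G)} (hQ : IsMinimalCentrallyLarge Q) :
    (zS S ⊓ (⁅Q, Q⁆).map (S : Subgroup G).subtype).Normal ∨
      ((minimalCentrallyLargeJoin ↥(S : Subgroup G)).map (S : Subgroup G).subtype).Normal := by
  by_cases hZ : zS S ≤ center G
  · exact Or.inl (normal_of_le_center (inf_le_left.trans hZ))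
  set D := (⁅Q, Q⁆).map (S : Subgroup G).subtype with hD
  by_cases hall : ∀ T : Subgroup ↥(S : Subgroup G), IsMinimalCentrallyLarge T → inG T ≤ pCore p G
  · right
    set N := (minimalCentrallyLargeJoin ↥(S : Subgroup G)).map (S : Subgroup G).subtype with hN
    refine ⟨fun x hx g => ?_⟩
    have hconj : conjSub g N ≤ N := by
      show N.map (MulAut.conj g).toMonoidHom ≤ N
      conv_lhs => rw [hN, minimalCentrallyLargeJoin, sSup_eq_iSup', Subgroup.map_iSup, Subgroup.map_iSup]
      refine iSup_le fun ⟨T, hT⟩ => ?_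
      obtain ⟨T', hT', e, -⟩ := h.conj_MCL hT (hall T hT) g
      exact (le_of_eq e.symm).trans (map_mono (le_sSup hT'))
    exact hconj (conj_mem_conjSub hx)
  push Not at hall
  obtain ⟨T, hT, hTX⟩ := hall
  left
  obtain ⟨T₁, hT₁, hT₁X⟩ := h.exists_MCL_inside hZ hS
  have hder : ∀ U : Subgroup ↥(S : Subgroup G), IsMinimalCentrallyLarge U → ⁅inG U, inG U⁆ = D := fun U hU => by
    rw [commutator_inG, (Cfsg.Agent.S3007.result _ S.2 U Q hU hQ).2.1]
  haveI hDn : D.Normal := ⟨fun x hx g => by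
    obtain ⟨T', hT', e, -⟩ := h.conj_MCL hT₁ hT₁X g
    rw [← hder T₁ hT₁] at hx
    rw [← hder T' hT', e, conjSub, ← map_commutator]
    exact conj_mem_conjSub hx⟩
  obtain ⟨hW, -⟩ := h.MCL_outside hZ hS hT fun hle => hTX fun x hx => h.inf_eq.le ⟨inG_le T hx, hle hx⟩
  refine normal_of_le_center (h.le_center_of (C := centralizer ((vS S ⊓ D : Subgroup G) : Set G)) inferInstance
    (fun hle => hW fun w hw => hle (mem_centralizer_iff.2 fun d hd => ?_))
    (centralizer_le (inf_le_inf_right D (zS_le_vS S))) (le_centralizer_iff.1 (inf_le_left.trans inf_le_right)))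
  exact mem_centralizer_iff.1 hw.2 d (commutator_le_self (inG T) ((hder T hT).ge hd.2))

theorem derived_characteristic {P : Type*} [Group P] [Finite P] (hP : IsPGroup p P) {Q : Subgroup P}
    (hQ : IsMinimalCentrallyLarge Q) : (⁅Q, Q⁆).Characteristic :=
  characteristic_iff_map_eq.2 fun φ => by
    rw [map_commutator]
    exact (Cfsg.Agent.S3007.result P hP _ Q (CLNormal.isMCL_map hQ φ) hQ).2.1

end CfsgLib.LocalEven.RankOne
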