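import Cfsg.Agent.Lib.LocalEven.RankOne.Pushing

/-!
The Baumann subgroup for a rank-one quotient.
-/

set_option autoImplicit false

namespace CfsgLib.LocalEven.RankOne

open Cfsg Subgroup
open CfsgLib.PStab
open CfsgLib.Fusion (conjSub conj_mem_conjSub conjSub_mono conjSub_eq_iff_mem_normalizer card_conjSub)
open scoped commutatorElement

variable {G : Type*} [Group G] [Finite G] {p n : ℕ} [hp : Fact p.Prime]
variable {S : Sylow p G} {K : Subgroup G} [K.Normal] {A : Subgroup G}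

/-- Elements acting trivially on `Y` modulo `V`. -/
def modStab (V Y : Subgroup G) [V.Normal] : Subgroup G where
  carrier := {g | ∀ w ∈ Y, ⁅g, w⁆ ∈ V}
  one_mem' := fun v _ => by simp [one_mem]
  mul_mem' := fun {x y} hx hy v hv => by
    rw [show ⁅x * y, v⁆ = x * ⁅y, v⁆ * x⁻¹ * ⁅x, v⁆ by simp only [commutatorElement_def]; group]
    exact mul_mem ((inferInstance : V.Normal).conj_mem _ (hy v hv) x) (hx v hv)
  inv_mem' := fun {x} hx v hv => by
    rw [show ⁅x⁻¹, v⁆ = x⁻¹ * ⁅x, v⁆⁻¹ * x⁻¹⁻¹ by simp only [commutatorElement_def]; group]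
    exact (inferInstance : V.Normal).conj_mem _ (inv_mem (hx v hv)) _

instance modStab_normal (V Y : Subgroup G) [V.Normal] [Y.Normal] : (modStab V Y).Normal :=
  ⟨fun x hx g v hv => by
    have h1 := (inferInstance : V.Normal).conj_mem _ (hx _ ((inferInstance : Y.Normal).conj_mem v hv g⁻¹)) g
    rw [← CfsgLib.LocalEven.ZJFusion.commutator_conj] at h1
    simpa [mul_assoc] using h1⟩

/-- The module together with `Z(J(S))`. -/
def yS (S : Sylow p G) : Subgroup G := vS S ⊔ zjGen 0 (S : Subgroup G)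

theorem Hyp.exists_mul (h : Hyp n S K) (hZ : ¬ zS S ≤ center G) (hA : A ∈ maxAdm 0 (S : Subgroup G))
    (hAQ : ¬ A ≤ pCore p G) {s : G} (hs : s ∈ (S : Subgroup G)) :
    ∃ x ∈ pCore p G, ∃ a ∈ A, s = x * a := by
  have hQS := CfsgLib.Cores.pCore_le_sylow S
  obtain ⟨-, heq, -⟩ := h.key hZ hA hAQ
  set T := A ⊔ pCore p G with hT
  have hTS : T ≤ (S : Subgroup G) := sup_le hA.1 hQS
  have h1 : (pCore p G).relIndex T = p ^ n := by
    have e1 : K ⊓ T = pCore p G := le_antisymm (fun x hx => h.inf_eq.le ⟨hTS hx.2, hx.1⟩)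
      (le_inf h.pCore_le le_sup_right)
    rw [← e1, inf_relIndex_right]
    exact le_antisymm (h.relIndex ▸ relIndex_le_of_le_right hTS index_ne_zero_of_finite)
      (heq ▸ relIndex_le_of_le_right le_sup_left index_ne_zero_of_finite)
  have h2 : (pCore p G).relIndex (S : Subgroup G) = p ^ n := by
    rw [← h.inf_eq, inf_relIndex_left, h.relIndex]
  have h3 := relIndex_mul_relIndex (pCore p G) T (S : Subgroup G) le_sup_right hTS
  rw [h1, h2] at h3
  have h4 : T.relIndex (S : Subgroup G) = 1 :=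
    (Nat.mul_eq_left (pow_pos hp.out.pos n).ne').1 h3
  exact CfsgLib.Solvable.exists_mul_of_mem_sup (K := pCore p G) (A := A)
    (by rw [normalizer_eq_top]; exact le_top) (by rw [sup_comm]; exact relIndex_eq_one.1 h4 hs)

theorem Hyp.conj_zjGen_le (h : Hyp n S K) (hZ : ¬ zS S ≤ center G) (hA : A ∈ maxAdm 0 (S : Subgroup G))
    (hAQ : ¬ A ≤ pCore p G) (g : G) :
    conjSub g (zjGen 0 (S : Subgroup G)) ≤ vS S ⊔ (A ⊓ K) ∧ zjGen 0 (S : Subgroup G) ≤ pCore p G := by
  obtain ⟨-, -, hVB⟩ := h.key hZ hA hAQ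
  set VB := vS S ⊔ (A ⊓ K) with hVBdef
  have hVBQ : VB ≤ pCore p G :=
    sup_le (h.vS_le.trans inf_le_left) fun x hx => h.inf_eq.le ⟨hA.1 hx.1, hx.2⟩
  have h0 : zjGen 0 (S : Subgroup G) ≤ VB := fun u hu =>
    mem_of_commute_maxAdm (p := orderOf u) (Or.inl rfl) hVB (zjGen_le 0 _ hu) (pow_orderOf_eq_one u)
      fun a ha => (mem_centralizer_iff.1 hu.2 a (le_jGen hVB ha)).symm
  refine ⟨?_, h0.trans hVBQ⟩
  rintro _ ⟨u, hu, rfl⟩
  have hgQ : g * u * g⁻¹ ∈ pCore p G := (inferInstance : (pCore p G).Normal).conj_mem u (hVBQ (h0 hu)) g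
  refine mem_of_commute_maxAdm (p := orderOf (g * u * g⁻¹)) (Or.inl rfl) hVB
    (CfsgLib.Cores.pCore_le_sylow S hgQ) (pow_orderOf_eq_one _) fun x hx => ?_
  have hconjQ : conjSub g⁻¹ VB ≤ pCore p G := by
    rintro _ ⟨y, hy, rfl⟩
    exact (inferInstance : (pCore p G).Normal).conj_mem y (hVBQ hy) g⁻¹
  have hmem : conjSub g⁻¹ VB ∈ maxAdm 0 (S : Subgroup G) := by
    refine ⟨hconjQ.trans (CfsgLib.Cores.pCore_le_sylow S), ⟨?_, fun a _ => pow_zero a⟩,
      fun C hC hCa => card_conjSub g⁻¹ VB ▸ hVB.2.2 C hC hCa⟩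
    refine ⟨⟨fun y z => Subtype.ext ?_⟩⟩
    obtain ⟨y', hy', ey⟩ := y.2
    obtain ⟨z', hz', ez⟩ := z.2
    show (y : G) * z = z * y
    rw [← ey, ← ez, ← map_mul, ← map_mul, adm_comm hVB.2.1 hy' hz']
  have h1 := mem_centralizer_iff.1 hu.2 _ (le_jGen hmem (conj_mem_conjSub (g := g⁻¹) hx))
  show g * u * g⁻¹ * x = x * (g * u * g⁻¹)
  calc g * u * g⁻¹ * x = g * (u * (g⁻¹ * x * g⁻¹⁻¹)) * g⁻¹ := by group
    _ = g * (g⁻¹ * x * g⁻¹⁻¹ * u) * g⁻¹ := by rw [h1]
    _ = x * (g * u * g⁻¹) := by group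

theorem Hyp.sylow_normalizes_yS (_h : Hyp n S K) :
    (S : Subgroup G) ≤ normalizer (yS S : Set G) := by
  intro s hs
  refine conjSub_eq_iff_mem_normalizer.1 ?_
  rw [yS, CfsgLib.Techniques.Functor.conjSub_sup, CfsgLib.Techniques.Functor.conjSub_normal (vS S) s,
    conjSub_eq_iff_mem_normalizer.2 (normalizer_le_normalizer_zjGen 0 _ (le_normalizer hs))]

/-- `V Z(J(S))` is normal and stabilised by the offenders modulo `V`. -/
theorem Hyp.yS_normal (h : Hyp n S K) (hZ : ¬ zS S ≤ center G) (hA : A ∈ maxAdm 0 (S : Subgroup G))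
    (hAQ : ¬ A ≤ pCore p G) :
    (yS S).Normal ∧ ∀ a ∈ A, ∀ w ∈ yS S, ⁅a, w⁆ ∈ vS S := by
  set V := vS S with hVdef
  set W := normalClosure (zjGen 0 (S : Subgroup G) : Set G) with hW
  haveI : W.Normal := normalClosure_normal
  have hVW : V ≤ W := normalClosure_le_normal fun x hx => le_normalClosure (zS_le_zjGen S hx)
  have hWVB : W ≤ V ⊔ (A ⊓ K) := by
    rw [hW, normalClosure, closure_le]
    intro y hy
    obtain ⟨u, hu, hc⟩ := Group.mem_conjugatesOfSet_iff.1 hy
    obtain ⟨g, hg⟩ := isConj_iff.1 hc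
    exact (h.conj_zjGen_le hZ hA hAQ g).1 (hg ▸ conj_mem_conjSub hu)
  have hAW : A ≤ modStab V W := by
    intro a ha w hw
    obtain ⟨v, hv, b, hb, rfl⟩ := CfsgLib.Solvable.exists_mul_of_mem_sup (K := V) (A := A ⊓ K)
      (by rw [normalizer_eq_top V]; exact le_top) (hWVB hw)
    rw [show ⁅a, v * b⁆ = ⁅a, v⁆ * (v * ⁅a, b⁆ * v⁻¹) by simp only [commutatorElement_def]; group,
      commutatorElement_eq_one_iff_mul_comm.2 (adm_comm hA.2.1 ha hb.1), mul_one, mul_inv_cancel, mul_one,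
      commutatorElement_def]
    exact mul_mem ((vS_normal S).conj_mem v hv a) (inv_mem hv)
  have hCK : ¬ modStab V W ≤ K := fun hle => hAQ fun x hx => h.inf_eq.le ⟨hA.1 hx, hle (hAW hx)⟩
  have hYW : yS S ≤ W := sup_le hVW le_normalClosure
  have hnor : modStab V W ≤ normalizer (yS S : Set G) := fun g hg =>
    CfsgLib.Solvable.mem_normalizer_of_conj_mem fun y hy => by
      have h1 : g * y * g⁻¹ = ⁅g, y⁆ * y := by rw [commutatorElement_def]; group
      rw [h1]
      exact mul_mem (mem_sup_left (hg y (hYW hy))) hy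
  haveI hn : (yS S).Normal :=
    normalizer_eq_top_iff.1 (top_unique ((h.gen inferInstance hCK).ge.trans (sup_le hnor h.sylow_normalizes_yS)))
  exact ⟨hn, fun a ha w hw => hAW ha w (hYW hw)⟩

/-- `[Z(J(S)), O_p(G)]` is normal. -/
theorem Hyp.commutator_normal (h : Hyp n S K) (hZ : ¬ zS S ≤ center G) (hA : A ∈ maxAdm 0 (S : Subgroup G))
    (hAQ : ¬ A ≤ pCore p G) :
    (⁅zjGen 0 (S : Subgroup G), pCore p G⁆).Normal ∧ ⁅zjGen 0 (S : Subgroup G), pCore p G⁆ ≤ zjGen 0 (S : Subgroup G) ∧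
      ⁅zjGen 0 (S : Subgroup G), (S : Subgroup G)⁆ ≤ ⁅zjGen 0 (S : Subgroup G), pCore p G⁆ := by
  set Z := zjGen 0 (S : Subgroup G) with hZdef
  haveI := (h.yS_normal hZ hA hAQ).1
  have hZQ : Z ≤ pCore p G := (h.conj_zjGen_le hZ hA hAQ 1).2
  have hSn : (S : Subgroup G) ≤ normalizer (Z : Set G) := le_normalizer.trans (normalizer_le_normalizer_zjGen 0 _)
  have e : ⁅Z, pCore p G⁆ = ⁅yS S, pCore p G⁆ := by
    refine le_antisymm (commutator_mono le_sup_right le_rfl) (commutator_le.2 fun y hy x hx => ?_)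
    obtain ⟨v, hv, z, hz, rfl⟩ := CfsgLib.Solvable.exists_mul_of_mem_sup (K := vS S) (A := Z)
      (by rw [normalizer_eq_top (vS S)]; exact le_top) hy
    have h1 : ⁅z, x⁆ ∈ pCore p G := by
      rw [commutatorElement_def]
      exact mul_mem (mul_mem (mul_mem (hZQ hz) hx) (inv_mem (hZQ hz))) (inv_mem hx)
    rw [show ⁅v * z, x⁆ = v * ⁅z, x⁆ * v⁻¹ * ⁅v, x⁆ by simp only [commutatorElement_def]; group,
      ← h.vS_comm hv h1, mul_inv_cancel_right, commutatorElement_eq_one_iff_mul_comm.2 (h.vS_comm hv hx).symm,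
      mul_one]
    exact commutator_mem_commutator hz hx
  refine ⟨by rw [e]; infer_instance, commutator_le.2 fun z hz x hx => ?_, commutator_le.2 fun z hz s hs => ?_⟩
  · rw [show ⁅z, x⁆ = z * (x * z⁻¹ * x⁻¹) by rw [commutatorElement_def]; group]
    exact mul_mem hz ((mem_normalizer_iff.1 (hSn (CfsgLib.Cores.pCore_le_sylow S hx)) _).1 (inv_mem hz))
  · obtain ⟨x, hx, a, ha, rfl⟩ := h.exists_mul hZ hA hAQ hs
    have h1 : ⁅z, a⁆ = 1 :=
      commutatorElement_eq_one_iff_mul_comm.2 (mem_centralizer_iff.1 hz.2 a (le_jGen hA ha)).symm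
    rw [show ⁅z, x * a⁆ = ⁅z, x⁆ * (x * ⁅z, a⁆ * x⁻¹) by simp only [commutatorElement_def]; group, h1,
      mul_one, mul_inv_cancel, mul_one]
    exact commutator_mem_commutator hz hx

/-- First alternative. -/
theorem Hyp.inf_center_normal (h : Hyp n S K) :
    (⁅zjGen 0 (S : Subgroup G), (S : Subgroup G)⁆ ⊓ zS S).Normal ∨
      ((S : Subgroup G) ⊓ centralizer (zjGen 0 (S : Subgroup G) : Set G)).Normal := by
  by_cases hZ : zS S ≤ center G
  · exact Or.inl (normal_of_le_center (inf_le_right.trans hZ))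
  by_cases hJ : jGen 0 (S : Subgroup G) ≤ pCore p G
  · exact Or.inr ((h.of_jGen_le hJ).resolve_left hZ)
  obtain ⟨A, hA, hAQ, -⟩ := h.exists_quad hJ
  obtain ⟨hn, hle, hS⟩ := h.commutator_normal hZ hA hAQ
  haveI := hn
  left
  set N := ⁅zjGen 0 (S : Subgroup G), pCore p G⁆ with hN
  have hAN : A ≤ centralizer (N : Set G) := fun a ha =>
    mem_centralizer_iff.2 fun z hz => (mem_centralizer_iff.1 (hle hz).2 a (le_jGen hA ha)).symm
  refine normal_of_le_center (h.le_center_of (C := centralizer (N : Set G)) inferInstance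
    (fun hc => hAQ fun x hx => h.inf_eq.le ⟨hA.1 hx, hc (hAN hx)⟩) (centralizer_le (inf_le_left.trans hS))
    (le_centralizer_iff.1 (inf_le_right.trans inf_le_right)))

/-- The powers of the centre. -/
theorem Hyp.powerClosure_normal (h : Hyp n S K) :
    (powerClosure p 1 (zS S)).Normal ∨
      ((S : Subgroup G) ⊓ centralizer (zjGen 0 (S : Subgroup G) : Set G)).Normal := by
  have hle : powerClosure p 1 (zS S) ≤ zS S :=
    (closure_le _).2 fun y ⟨x, hx, e⟩ => e ▸ Subgroup.pow_mem _ hx _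
  by_cases hZ : zS S ≤ center G
  · exact Or.inl (normal_of_le_center (hle.trans hZ))
  by_cases hJ : jGen 0 (S : Subgroup G) ≤ pCore p G
  · exact Or.inr ((h.of_jGen_le hJ).resolve_left hZ)
  obtain ⟨A, hA, hAQ, hVA⟩ := h.exists_quad hJ
  obtain ⟨a, haA, haK⟩ := SetLike.not_le_iff_exists.1 fun hle' : A ≤ K =>
    hAQ fun x hx => h.inf_eq.le ⟨hA.1 hx, hle' hx⟩
  left
  set P : Set G := {y | ∃ v ∈ vS S, y = v ^ p} with hP
  haveI hCn : (centralizer P).Normal := ⟨fun c hc g => mem_centralizer_iff.2 fun y ⟨v, hv, e⟩ => by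
    have h1 := mem_centralizer_iff.1 hc _ ⟨g⁻¹ * v * g⁻¹⁻¹, (vS_normal S).conj_mem v hv g⁻¹, rfl⟩
    rw [conj_pow, ← e] at h1
    calc y * (g * c * g⁻¹) = g * ((g⁻¹ * y * g⁻¹⁻¹) * c) * g⁻¹ := by group
      _ = g * (c * (g⁻¹ * y * g⁻¹⁻¹)) * g⁻¹ := by rw [h1]
      _ = g * c * g⁻¹ * y := by group⟩
  have haP : a ∈ centralizer P := by
    refine mem_centralizer_iff.2 ?_
    rintro _ ⟨v, hv, rfl⟩
    set c := ⁅a, v⁆ with hc
    have hcV : c ∈ vS S := by
      rw [hc, commutatorElement_def]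
      exact mul_mem ((vS_normal S).conj_mem v hv a) (inv_mem hv)
    have hcA : c ∈ A := by
      rw [hc, show ⁅a, v⁆ = a * (v * a⁻¹ * v⁻¹) by rw [commutatorElement_def]; group]
      exact mul_mem haA ((mem_normalizer_iff.1 (hVA hv) _).1 (inv_mem haA))
    have hav : a * v * a⁻¹ = c * v := by rw [hc, commutatorElement_def]; group
    have hit : ∀ j : ℕ, a ^ j * v * (a ^ j)⁻¹ = c ^ j * v := by
      intro j
      induction j with
      | zero => simp
      | succ j ih =>
        calc a ^ (j + 1) * v * (a ^ (j + 1))⁻¹ = a * (a ^ j * v * (a ^ j)⁻¹) * a⁻¹ := by rw [pow_succ']; group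
          _ = (a * c ^ j * a⁻¹) * (a * v * a⁻¹) := by rw [ih]; group
          _ = c ^ (j + 1) * v := by
            rw [adm_comm hA.2.1 haA (Subgroup.pow_mem _ hcA j), mul_inv_cancel_right, hav, pow_succ, mul_assoc]
    have hapQ : a ^ p ∈ pCore p G := h.inf_eq.le ⟨Subgroup.pow_mem _ (hA.1 haA) p, h.pow_mem (hA.1 haA)⟩
    have hcp : c ^ p = 1 := by
      have h1 := hit p
      rw [h.vS_comm hv hapQ, mul_inv_cancel_right] at h1
      simpa using h1.symm
    have hcomm : Commute c v := h.vS_comm hv (h.vS_le hcV).1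
    have h1 : a * v ^ p * a⁻¹ = v ^ p := by rw [← conj_pow, hav, hcomm.mul_pow, hcp, one_mul]
    exact (mul_inv_eq_iff_eq_mul.1 h1).symm
  refine normal_of_le_center (h.le_center_of hCn (fun hc => haK (hc haP)) ?_
    (le_centralizer_iff.1 (hle.trans inf_le_right)))
  intro c hc
  refine mem_centralizer_iff.2 fun y hy => mem_centralizer_singleton_iff.1 ((closure_le _).2 ?_ hy)
  rintro _ ⟨x, hx, rfl⟩
  rw [pow_one]
  exact mem_centralizer_singleton_iff.2 (mem_centralizer_iff.1 hc _ ⟨x, zS_le_vS S hx, rfl⟩)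

/-- The Baumann subgroup is a Sylow subgroup of its normal closure. -/
theorem Hyp.baumann_sylow (h : Hyp n S K) (hZ : ¬ zS S ≤ center G) :
    (S : Subgroup G) ⊓ normalClosure (((S : Subgroup G) ⊓ centralizer (zjGen 0 (S : Subgroup G) : Set G) : Subgroup G) : Set G) =
      (S : Subgroup G) ⊓ centralizer (zjGen 0 (S : Subgroup G) : Set G) := by
  classical
  set Z := zjGen 0 (S : Subgroup G) with hZdef
  set P := (S : Subgroup G) ⊓ centralizer (Z : Set G) with hPdef
  refine le_antisymm ?_ (le_inf inf_le_left le_normalClosure)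
  by_cases hJ : jGen 0 (S : Subgroup G) ≤ pCore p G
  · haveI : P.Normal := (h.of_jGen_le hJ).resolve_left hZ
    rw [normalClosure_eq_self]
    exact inf_le_right
  obtain ⟨A, hA, hAQ, -⟩ := h.exists_quad hJ
  set V := vS S with hVdef
  set Y := yS S with hYdef
  obtain ⟨hYn, hAY⟩ := h.yS_normal hZ hA hAQ
  haveI := hYn
  obtain ⟨hNn, hNZ, -⟩ := h.commutator_normal hZ hA hAQ
  set N := ⁅Z, pCore p G⁆ with hN
  haveI := hNn
  obtain ⟨hd, -, hVB⟩ := h.key hZ hA hAQ
  have hZQ : Z ≤ pCore p G := (h.conj_zjGen_le hZ hA hAQ 1).2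
  have hYQ : Y ≤ pCore p G := sup_le (h.vS_le.trans inf_le_left) hZQ
  set D := pCore p G ⊓ centralizer (Y : Set G) with hDdef
  haveI : D.Normal := inferInstance
  have hDmem : ∀ x ∈ pCore p G, x ∈ centralizer (Z : Set G) → x ∈ D := fun x hx hxZ => by
    refine ⟨hx, (show Y ≤ centralizer ({x} : Set G) from sup_le (fun v hv => ?_) (fun z hz => ?_)) |>
      fun hle => mem_centralizer_iff.2 fun y hy => mem_centralizer_singleton_iff.1 (hle hy)⟩
    · exact mem_centralizer_singleton_iff.2 (h.vS_comm hv hx).symm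
    · exact mem_centralizer_singleton_iff.2 (mem_centralizer_iff.1 hxZ z hz)
  obtain ⟨g, hg⟩ := h.two
  set H := A ⊔ conjSub g A with hH
  have hAC : A ≤ modStab V Y := fun a ha => hAY a ha
  have hAN : A ≤ centralizer (N : Set G) := fun a ha =>
    mem_centralizer_iff.2 fun z hz => (mem_centralizer_iff.1 (hNZ hz).2 a (le_jGen hA ha)).symm
  have hHC : H ≤ modStab V Y ⊓ centralizer (N : Set G) := by
    refine sup_le (le_inf hAC hAN) ?_
    rw [← CfsgLib.Techniques.Functor.conjSub_normal (modStab V Y ⊓ centralizer (N : Set G)) g]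
    exact conjSub_mono g (le_inf hAC hAN)
  have hHQ : H ⊔ pCore p G = ⊤ := by
    have hS : (S : Subgroup G) ≤ H ⊔ pCore p G := fun s hs => by
      obtain ⟨x, hx, a, ha, rfl⟩ := h.exists_mul hZ hA hAQ hs
      exact mul_mem (mem_sup_right hx) (mem_sup_left (mem_sup_left ha))
    refine h.eq_top hS (top_unique (hg.ge.trans (sup_le (sup_le (hS.trans le_sup_left) ?_) le_sup_right)))
    rintro _ ⟨s, hs, rfl⟩
    obtain ⟨x, hx, a, ha, rfl⟩ := h.exists_mul hZ hA hAQ hs
    rw [map_mul]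
    exact mem_sup_left (mul_mem (mem_sup_right ((inferInstance : (pCore p G).Normal).conj_mem x hx g))
      (mem_sup_left (mem_sup_right (conj_mem_conjSub ha))))
  -- `O_p(G)` acts on the quotient by the centraliser of `Y` through fixed maps
  have hcomm : ∀ l ∈ modStab V Y ⊓ centralizer (N : Set G), ∀ x ∈ pCore p G, ⁅l, x⁆ ∈ D := by
    intro l hl x hx
    have key : ∀ w ∈ Y, (l * x * l⁻¹) * w * (l * x * l⁻¹)⁻¹ = x * w * x⁻¹ := by
      intro w hw
      set u := l⁻¹ * w * l with hu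
      have huY : u ∈ Y := by simpa [hu] using hYn.conj_mem w hw l⁻¹
      set v := ⁅l, u⁆ with hvdef
      have hv : v ∈ V := hl.1 u huY
      have hw' : w = v * u := by rw [hvdef, hu, commutatorElement_def]; group
      set ν := ⁅x, u⁆ with hνdef
      have hν : ν ∈ N := by
        obtain ⟨v', hv', z, hz, e⟩ := CfsgLib.Solvable.exists_mul_of_mem_sup (K := V) (A := Z)
          (by rw [normalizer_eq_top V]; exact le_top) huY
        rw [hνdef, e, show ⁅x, v' * z⁆ = ⁅x, v'⁆ * (v' * ⁅x, z⁆ * v'⁻¹) by simp only [commutatorElement_def]; group,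
          commutatorElement_eq_one_iff_mul_comm.2 (h.vS_comm hv' hx), one_mul]
        refine hNn.conj_mem _ ?_ v'
        rw [← commutatorElement_inv]
        exact inv_mem (commutator_mem_commutator hz hx)
      have hνQ : ν ∈ pCore p G := hZQ (hNZ hν)
      calc (l * x * l⁻¹) * w * (l * x * l⁻¹)⁻¹ = l * (x * u * x⁻¹) * l⁻¹ := by rw [hu]; group
        _ = (l * ν * l⁻¹) * (l * u * l⁻¹) := by rw [hνdef, commutatorElement_def]; group
        _ = ν * w := by
          rw [← mem_centralizer_iff.1 hl.2 ν hν, mul_inv_cancel_right, hu]; group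
        _ = x * w * x⁻¹ := by
          rw [hw', ← mul_assoc, h.vS_comm hv hνQ, hνdef, commutatorElement_def]
          calc v * (x * u * x⁻¹ * u⁻¹) * u = v * (x * u * x⁻¹) := by group
            _ = (x * v) * u * x⁻¹ * 1 := by rw [h.vS_comm hv hx]; group
            _ = _ := by group
    refine ⟨?_, mem_centralizer_iff.2 fun w hw => ?_⟩
    · rw [commutatorElement_def]
      exact (pCore p G).mul_mem ((inferInstance : (pCore p G).Normal).conj_mem x hx l) ((pCore p G).inv_mem hx)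
    · have h1 := key (x⁻¹ * w * x) (by simpa using hYn.conj_mem w hw x⁻¹)
      rw [commutatorElement_def]
      refine (mul_inv_eq_iff_eq_mul.1 ?_).symm
      calc l * x * l⁻¹ * x⁻¹ * w * (l * x * l⁻¹ * x⁻¹)⁻¹
          = (l * x * l⁻¹) * (x⁻¹ * w * x) * (l * x * l⁻¹)⁻¹ := by group
        _ = w := by rw [h1]; group
  set L0 := H ⊔ D with hL0
  have hQL : pCore p G ≤ normalizer (L0 : Set G) := by
    intro x hx
    refine conjSub_eq_iff_mem_normalizer.1 (eq_of_le_of_card_ge ?_ (card_conjSub x _).ge)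
    rw [hL0, CfsgLib.Techniques.Functor.conjSub_sup, CfsgLib.Techniques.Functor.conjSub_normal D x]
    refine sup_le ?_ le_sup_right
    rintro _ ⟨l, hl, rfl⟩
    show x * l * x⁻¹ ∈ L0
    rw [show x * l * x⁻¹ = ⁅l, x⁆⁻¹ * l by rw [commutatorElement_def]; group]
    exact mul_mem (mem_sup_right (inv_mem (hcomm l (hHC hl) x hx))) (mem_sup_left hl)
  haveI hLn : L0.Normal := normalizer_eq_top_iff.1
    (top_unique (hHQ.ge.trans (sup_le (le_sup_left.trans le_normalizer) hQL)))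
  have hPL : normalClosure (P : Set G) ≤ L0 := by
    refine normalClosure_le_normal fun s hs => ?_
    obtain ⟨x, hx, a, ha, rfl⟩ := h.exists_mul hZ hA hAQ hs.1
    have haZ : a ∈ centralizer (Z : Set G) :=
      mem_centralizer_iff.2 fun z hz => (mem_centralizer_iff.1 hz.2 a (le_jGen hA ha)).symm
    have hxZ : x ∈ centralizer (Z : Set G) := by simpa using (centralizer (Z : Set G)).mul_mem hs.2 ((centralizer (Z : Set G)).inv_mem haZ)
    exact mul_mem (mem_sup_right (hDmem x hx hxZ)) (mem_sup_left (mem_sup_left ha))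
  -- the fixed part
  set Y0 := Z ⊓ conjSub g Z with hY0
  have hY0Y : Y0 ≤ Y := inf_le_left.trans le_sup_right
  have hAZ : A ≤ centralizer (Z : Set G) := fun a ha =>
    mem_centralizer_iff.2 fun z hz => (mem_centralizer_iff.1 hz.2 a (le_jGen hA ha)).symm
  have hHY0 : H ≤ centralizer (Y0 : Set G) := by
    refine sup_le (hAZ.trans (centralizer_le inf_le_left)) ?_
    rintro _ ⟨a, ha, rfl⟩
    refine mem_centralizer_iff.2 fun y hy => ?_
    obtain ⟨z, hz, rfl⟩ := hy.2
    show g * z * g⁻¹ * (g * a * g⁻¹) = g * a * g⁻¹ * (g * z * g⁻¹)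
    calc g * z * g⁻¹ * (g * a * g⁻¹) = g * (z * a) * g⁻¹ := by group
      _ = g * (a * z) * g⁻¹ := by rw [mem_centralizer_iff.1 (hAZ ha) z hz]
      _ = _ := by group
  have hLY0 : L0 ≤ centralizer (Y0 : Set G) := sup_le hHY0 (inf_le_right.trans (centralizer_le hY0Y))
  have hVZ : V ⊓ Z = V ⊓ centralizer (A : Set G) := by
    refine le_antisymm (le_inf inf_le_left (inf_le_right.trans (le_centralizer_iff.1 hAZ))) fun v hv => ⟨hv.1, ?_⟩
    refine zS_le_zjGen S ⟨h.vS_le_S hv.1, mem_centralizer_iff.2 fun s hs => ?_⟩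
    obtain ⟨x, hx, a, ha, rfl⟩ := h.exists_mul hZ hA hAQ hs
    exact ((show Commute x v from h.vS_comm hv.1 hx).mul_left (mem_centralizer_iff.1 hv.2 a ha)).eq
  have hVZc : ∀ v ∈ V, ∀ z ∈ Z, v * z = z * v := fun v hv z hz => (h.vS_comm hv (hZQ hz)).symm
  have hVd : ∀ X : Subgroup G, X ≤ V → Nat.card X * X.relIndex V = Nat.card V := fun X hX => by
    rw [← relIndex_bot_left, relIndex_mul_relIndex _ _ _ bot_le hX, relIndex_bot_left]
  have hYd : ∀ X : Subgroup G, X ≤ Y → Nat.card X * X.relIndex Y = Nat.card Y := fun X hX => by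
    rw [← relIndex_bot_left, relIndex_mul_relIndex _ _ _ bot_le hX, relIndex_bot_left]
  have hZY : Z.relIndex Y = p ^ n := by
    have h1 := CfsgLib.Transfer.card_mul_card_of_commute V Z hVZc
    rw [hVZ, show V ⊔ Z = Y from rfl, ← hVd _ inf_le_left, hd, ← hYd Z le_sup_right] at h1
    refine Nat.eq_of_mul_eq_mul_left (Nat.mul_pos (Nat.card_pos (α := Z)) (Nat.card_pos (α := (V ⊓ centralizer (A : Set G) : Subgroup G)))) ?_
    linarith
  have hgZY : (conjSub g Z).relIndex Y = p ^ n := by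
    conv_lhs => rw [← CfsgLib.Techniques.Functor.conjSub_normal Y g]
    rw [← hZY]
    exact relIndex_map_map_of_injective _ _ (MulAut.conj g).injective
  have hY0i : Y0.relIndex Y ≤ p ^ (2 * n) := by
    refine relIndex_inf_le.trans (le_of_eq ?_)
    rw [hZY, hgZY, ← pow_add, two_mul]
  have hcen : V ⊓ Y0 ≤ V ⊓ center G := fun v hv => ⟨hv.1, mem_center_iff.2 fun x => by
    refine mem_centralizer_singleton_iff.1 ((sup_le ?_ ?_ : H ⊔ pCore p G ≤ centralizer ({v} : Set G))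
      (hHQ.ge (mem_top x)))
    · exact fun l hl => mem_centralizer_singleton_iff.2 (mem_centralizer_iff.1 (hHY0 hl) v hv.2).symm
    · exact fun l hl => mem_centralizer_singleton_iff.2 (h.vS_comm hv.1 hl)⟩
  have hlow : p ^ (2 * n) ≤ (V ⊓ Y0).relIndex V :=
    (h.sq_le_center_relIndex hZ).trans (relIndex_le_of_le_left hcen index_ne_zero_of_finite)
  have hVY0 : V ⊔ Y0 = Y := by
    refine eq_of_le_of_card_ge (sup_le le_sup_left hY0Y) ?_
    have h1 := CfsgLib.Transfer.card_mul_card_of_commute V Y0 fun v hv z hz => hVZc v hv z hz.1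
    rw [← hVd _ (inf_le_left : V ⊓ Y0 ≤ V)] at h1
    refine Nat.le_of_mul_le_mul_right ?_ (Nat.card_pos (α := (V ⊓ Y0 : Subgroup G)))
    calc Nat.card Y * Nat.card ↥(V ⊓ Y0) = Nat.card Y0 * Y0.relIndex Y * Nat.card ↥(V ⊓ Y0) := by
          rw [hYd Y0 hY0Y]
      _ ≤ Nat.card Y0 * (V ⊓ Y0).relIndex V * Nat.card ↥(V ⊓ Y0) :=
          Nat.mul_le_mul_right _ (Nat.mul_le_mul_left _ (hY0i.trans hlow))
      _ = _ := by rw [← h1]; ring
  rintro s ⟨hs, hsL⟩
  refine ⟨hs, ?_⟩
  obtain ⟨x, hx, a, ha, rfl⟩ := h.exists_mul hZ hA hAQ hs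
  refine mul_mem ?_ (hAZ ha)
  have hxL : x ∈ L0 := by simpa using mul_mem (hPL hsL) (inv_mem (mem_sup_left (mem_sup_left ha) : a ∈ L0))
  refine mem_centralizer_iff.2 fun z hz => mem_centralizer_singleton_iff.1 ?_
  refine (sup_le ?_ ?_ : V ⊔ Y0 ≤ centralizer ({x} : Set G)) (hVY0.ge (mem_sup_right hz))
  · exact fun v hv => mem_centralizer_singleton_iff.2 (h.vS_comm hv hx).symm
  · exact fun y hy => mem_centralizer_singleton_iff.2 (mem_centralizer_iff.1 (hLY0 hxL) y hy)

end CfsgLib.LocalEven.RankOne
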