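import Cfsg.Agent.Lib.LocalEven.RankOne.Final
import Cfsg.Agent.Lib.LocalEven.CLNormal
import Cfsg.Agent.Lib.Invol.QDW.Transport
import Cfsg.Agent.Lib.PGroup.ElemAbelian
import Cfsg.Agent.Lib.PGroup.Basic
import Cfsg.Agent.Lib.Solvable.BurnsideBasis

/-!
Pushing up when the Sylow subgroup centralises `Z(J(S))`: centrally large subgroups inside `O_p(G)`.
-/

set_option autoImplicit false

namespace CfsgLib.LocalEven.RankOne

open Cfsg Subgroup
open CfsgLib.PStab
open CfsgLib.Fusion (conjSub conj_mem_conjSub conjSub_eq_iff_mem_normalizer card_conjSub)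
open scoped commutatorElement

/-- The centre of a subgroup, inside the ambient group. -/
def czOf {G : Type*} [Group G] (R : Subgroup G) : Subgroup G := R ⊓ centralizer (R : Set G)

theorem czOf_comm {G : Type*} [Group G] {R : Subgroup G} :
    ∀ a ∈ czOf R, ∀ b ∈ czOf R, a * b = b * a :=
  fun a ha _ hb => mem_centralizer_iff.1 hb.2 a ha.1

theorem czOf_map {G H : Type*} [Group G] [Group H] {f : G →* H} (hf : Function.Injective f) (R : Subgroup G) :
    (czOf R).map f = czOf (R.map f) := by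
  ext y
  constructor
  · rintro ⟨x, hx, rfl⟩
    refine ⟨mem_map_of_mem f hx.1, mem_centralizer_iff.2 ?_⟩
    rintro _ ⟨r, hr, rfl⟩
    rw [← map_mul, mem_centralizer_iff.1 hx.2 r hr, map_mul]
  · rintro ⟨⟨x, hx, rfl⟩, hc⟩
    refine ⟨x, ⟨hx, mem_centralizer_iff.2 fun r hr => hf ?_⟩, rfl⟩
    rw [map_mul, map_mul]
    exact mem_centralizer_iff.1 hc _ (mem_map_of_mem f hr)

/-- The Frattini subgroup of a subgroup, inside the ambient group. -/
def phiOf {G : Type*} [Group G] (R : Subgroup G) : Subgroup G := (frattini ↥R).map R.subtype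

theorem phiOf_map {G H : Type*} [Group G] [Group H] {f : G →* H} (hf : Function.Injective f) (R : Subgroup G) :
    (phiOf R).map f = phiOf (R.map f) := by
  rw [phiOf, phiOf, ← CfsgLib.Invol.QDW.map_frattini (R.equivMapOfInjective f hf), map_map, map_map]
  rfl

variable {G : Type*} [Group G] [Finite G] {p n : ℕ} [hp : Fact p.Prime]
variable {S : Sylow p G} {K : Subgroup G} [K.Normal]

theorem Hyp.exists_outside (h : Hyp n S K) (hZ : ¬ zS S ≤ center G)
    (hS : (S : Subgroup G) ≤ centralizer (zjGen 0 (S : Subgroup G) : Set G)) :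
    ∃ A ∈ maxAdm 0 (S : Subgroup G), ¬ A ≤ pCore p G := by
  obtain ⟨A, hA, hAQ, -⟩ := h.exists_quad fun hJ => by
    haveI := (h.of_jGen_le hJ).resolve_left hZ
    have hle := (CfsgLib.Cores.le_pCore (p := p)
      (S.2.to_le (inf_le_left : (S : Subgroup G) ⊓ centralizer (zjGen 0 (S : Subgroup G) : Set G) ≤ S))).trans h.pCore_le
    rw [inf_eq_left.2 hS] at hle
    have h1 := h.relIndex
    rw [relIndex_eq_one.2 hle] at h1
    exact (Nat.one_lt_pow (by have := h.pos; omega) hp.out.one_lt).ne h1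
  exact ⟨A, hA, hAQ⟩

/-- An element outside `K` moves a large part of a normal subgroup of the module. -/
theorem Hyp.le_centralizer_relIndex (h : Hyp n S K) {N : Subgroup G} [N.Normal] (hN : N ≤ vS S)
    (hCN : centralizer (N : Set G) ≤ K) {s : G} (hs : s ∈ (S : Subgroup G)) (hsK : s ∉ K) :
    p ^ n ≤ (N ⊓ centralizer ({s} : Set G)).relIndex N := by
  have hNp : IsPGroup p N := h.vS_isPGroup.to_le hN
  set C1 := N ⊓ centralizer ({s} : Set G) with hC1
  set d := C1.relIndex N with hd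
  by_cases hn : 2 ≤ n
  · obtain ⟨r, a, hr, hrp, hmin, hpair⟩ := h.pair hn
    haveI := Fact.mk hr
    obtain ⟨g, z, m, hzcl, hzm, hzK⟩ := hpair s hs hsK
    have hmove : ∃ v ∈ N, z ^ r ^ a * v ≠ v * z ^ r ^ a := by
      by_contra hc
      push Not at hc
      exact hzK (hCN (mem_centralizer_iff.2 fun v hv => (hc v hv).symm))
    have hNg : N.map (MulAut.conj g).toMonoidHom = N :=
      conjSub_eq_iff_mem_normalizer.2 (by rw [normalizer_eq_top N]; trivial)
    set C2 := C1.map (MulAut.conj g).toMonoidHom with hC2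
    have hrel : C2.relIndex N = d := by
      conv_lhs => rw [hC2, ← hNg]
      exact relIndex_map_map_of_injective _ _ (MulAut.conj g).injective
    have hfix : ∀ w ∈ C1 ⊓ C2, z * w = w * z := by
      rintro w ⟨hw, w', hw', rfl⟩
      refine (mem_centralizer_singleton_iff.1 ((closure_le _).2 ?_ hzcl)).symm.symm
      rintro y (rfl | rfl)
      · exact mem_centralizer_singleton_iff.2 (mem_centralizer_singleton_iff.1 hw.2).symm
      · refine mem_centralizer_singleton_iff.2 ?_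
        show g * s * g⁻¹ * (g * w' * g⁻¹) = g * w' * g⁻¹ * (g * s * g⁻¹)
        calc g * s * g⁻¹ * (g * w' * g⁻¹) = g * (s * w') * g⁻¹ := by group
          _ = g * (w' * s) * g⁻¹ := by rw [mem_centralizer_singleton_iff.1 hw'.2]
          _ = _ := by group
    obtain ⟨k, hk, hkd, hkle⟩ := index_bound hNp
      (by rw [normalizer_eq_top N]; trivial) hrp hzm hmove
      (inf_le_left.trans inf_le_left : C1 ⊓ C2 ≤ N) hfix
    have h2 : (p ^ n) ^ 2 ≤ d ^ 2 := by
      rw [← pow_mul, mul_comm n 2, pow_two]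
      refine ((Nat.pow_le_pow_right hp.out.pos (hmin k hk hkd)).trans hkle).trans (relIndex_inf_le.trans ?_)
      rw [hrel]
    exact (Nat.pow_le_pow_iff_left two_ne_zero).1 h2
  · obtain rfl : n = 1 := by have := h.pos; omega
    rw [pow_one]
    obtain ⟨j, hj⟩ := IsPGroup.iff_card.1 hNp
    obtain ⟨i, -, hi⟩ := (Nat.dvd_prime_pow hp.out).1 (hj ▸ relIndex_dvd_card C1 N)
    rcases i with _ | i
    · rw [pow_zero, relIndex_eq_one] at hi
      refine absurd (hCN (mem_centralizer_iff.2 fun v hv => ?_)) hsK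
      exact mem_centralizer_singleton_iff.1 (hi hv).2
    · rw [hd, hi]
      exact Nat.le_self_pow (Nat.succ_ne_zero i) p

/-- The part of the module centralised by the Sylow subgroup. -/
def fixS (S : Sylow p G) : Subgroup G := vS S ⊓ centralizer ((S : Subgroup G) : Set G)

theorem Hyp.fix_eq (h : Hyp n S K) (hZ : ¬ zS S ≤ center G) {A : Subgroup G}
    (hA : A ∈ maxAdm 0 (S : Subgroup G)) (hAQ : ¬ A ≤ pCore p G) :
    vS S ⊓ centralizer (A : Set G) = fixS S := by
  refine le_antisymm (fun v hv => ⟨hv.1, mem_centralizer_iff.2 fun s hs => ?_⟩)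
    (inf_le_inf_left _ (centralizer_le hA.1))
  obtain ⟨x, hx, a, ha, rfl⟩ := h.exists_mul hZ hA hAQ hs
  exact ((show Commute x v from h.vS_comm hv.1 hx).mul_left (mem_centralizer_iff.1 hv.2 a ha)).eq

theorem Hyp.fix_relIndex (h : Hyp n S K) (hZ : ¬ zS S ≤ center G)
    (hS : (S : Subgroup G) ≤ centralizer (zjGen 0 (S : Subgroup G) : Set G)) :
    (fixS S).relIndex (vS S) = p ^ n := by
  obtain ⟨A, hA, hAQ⟩ := h.exists_outside hZ hS
  rw [← h.fix_eq hZ hA hAQ]
  exact (h.key hZ hA hAQ).1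

theorem Hyp.mem_fix (h : Hyp n S K) (hZ : ¬ zS S ≤ center G)
    (hS : (S : Subgroup G) ≤ centralizer (zjGen 0 (S : Subgroup G) : Set G)) {s v : G}
    (hs : s ∈ (S : Subgroup G)) (hsK : s ∉ K) (hv : v ∈ vS S) (hsv : s * v = v * s) : v ∈ fixS S := by
  have h1 : fixS S ≤ vS S ⊓ centralizer ({s} : Set G) :=
    inf_le_inf_left _ (centralizer_le (Set.singleton_subset_iff.2 hs))
  have h2 := h.le_centralizer_relIndex le_rfl (h.centralizer_le_K hZ) hs hsK
  have h3 := relIndex_mul_relIndex (fixS S) (vS S ⊓ centralizer ({s} : Set G)) (vS S) h1 inf_le_left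
  rw [h.fix_relIndex hZ hS] at h3
  have h4 : (fixS S).relIndex (vS S ⊓ centralizer ({s} : Set G)) = 1 := by
    refine le_antisymm ?_ (Nat.pos_of_ne_zero index_ne_zero_of_finite)
    refine Nat.le_of_mul_le_mul_right ?_ (pow_pos hp.out.pos n)
    calc _ ≤ (fixS S).relIndex (vS S ⊓ centralizer ({s} : Set G)) *
          (vS S ⊓ centralizer ({s} : Set G)).relIndex (vS S) := Nat.mul_le_mul_left _ h2
      _ = _ := by rw [h3, one_mul]
  exact relIndex_eq_one.1 h4 ⟨hv, mem_centralizer_singleton_iff.2 hsv.symm⟩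

theorem Hyp.pow_central (h : Hyp n S K) (hZ : ¬ zS S ≤ center G)
    (hS : (S : Subgroup G) ≤ centralizer (zjGen 0 (S : Subgroup G) : Set G)) {v : G} (hv : v ∈ vS S) :
    v ^ p ∈ fixS S := by
  obtain ⟨A₀, hA₀, hA₀Q⟩ := h.exists_outside hZ hS
  obtain ⟨A, hA, hAQ, hVA⟩ := h.exists_quad fun hJ => hA₀Q ((le_jGen hA₀).trans hJ)
  obtain ⟨a, ha, haK⟩ := SetLike.not_le_iff_exists.1 fun hle : A ≤ K =>
    hAQ fun x hx => h.inf_eq.le ⟨hA.1 hx, hle hx⟩
  set c := ⁅a, v⁆ with hc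
  have hcV : c ∈ vS S := by
    rw [hc, commutatorElement_def]
    exact mul_mem ((vS_normal S).conj_mem v hv a) (inv_mem hv)
  have hcA : c ∈ A := by
    rw [hc, show ⁅a, v⁆ = a * (v * a⁻¹ * v⁻¹) by rw [commutatorElement_def]; group]
    exact mul_mem ha ((mem_normalizer_iff.1 (hVA hv) _).1 (inv_mem ha))
  have hcS : c ∈ fixS S := h.mem_fix hZ hS (hA.1 ha) haK hcV (adm_comm hA.2.1 ha hcA)
  have hav : a * v * a⁻¹ = c * v := by rw [hc, commutatorElement_def]; group
  have hit : ∀ j : ℕ, a ^ j * v * (a ^ j)⁻¹ = c ^ j * v := by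
    intro j
    induction j with
    | zero => simp
    | succ j ih =>
      calc a ^ (j + 1) * v * (a ^ (j + 1))⁻¹ = a * (a ^ j * v * (a ^ j)⁻¹) * a⁻¹ := by rw [pow_succ']; group
        _ = (a * c ^ j * a⁻¹) * (a * v * a⁻¹) := by rw [ih]; group
        _ = c ^ (j + 1) * v := by
          rw [mem_centralizer_iff.1 (Subgroup.pow_mem _ hcS.2 j) a (hA.1 ha), mul_inv_cancel_right, hav,
            pow_succ, mul_assoc]
  have hapQ : a ^ p ∈ pCore p G := h.inf_eq.le ⟨Subgroup.pow_mem _ (hA.1 ha) p, h.pow_mem (hA.1 ha)⟩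
  have hcp : c ^ p = 1 := by
    have h1 := hit p
    rw [h.vS_comm hv hapQ, mul_inv_cancel_right] at h1
    simpa using h1.symm
  refine h.mem_fix hZ hS (hA.1 ha) haK (Subgroup.pow_mem _ hv p) ?_
  have hcomm : Commute c v := h.vS_comm hv (h.vS_le hcV).1
  have h1 : a * v ^ p * a⁻¹ = v ^ p := by rw [← conj_pow, hav, hcomm.mul_pow, hcp, one_mul]
  exact mul_inv_eq_iff_eq_mul.1 h1

/-- The subgroup of exponent `p` of the module is still faithful. -/
theorem Hyp.centralizer_omega_le (h : Hyp n S K) (hZ : ¬ zS S ≤ center G)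
    (hS : (S : Subgroup G) ≤ centralizer (zjGen 0 (S : Subgroup G) : Set G)) :
    centralizer (omegaOne p (vS S) : Set G) ≤ K := by
  haveI hn := CfsgLib.PGroup.omegaOne_normal p (vS S)
  set C := centralizer (omegaOne p (vS S) : Set G) with hC
  have hfix : ∀ v ∈ vS S, v ^ p ∈ center G := by
    intro v hv
    refine mem_center_iff.2 fun g => ?_
    -- all conjugates of `v ^ p` are centralised by `S`, so a normal subgroup outside `K` fixes them
    set P : Set G := {y | ∃ w ∈ vS S, y = w ^ p} with hP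
    haveI hPn : (centralizer P).Normal := ⟨fun c hc g => mem_centralizer_iff.2 fun y ⟨w, hw, e⟩ => by
      have h1 := mem_centralizer_iff.1 hc _ ⟨g⁻¹ * w * g⁻¹⁻¹, (vS_normal S).conj_mem w hw g⁻¹, rfl⟩
      rw [conj_pow, ← e] at h1
      calc y * (g * c * g⁻¹) = g * ((g⁻¹ * y * g⁻¹⁻¹) * c) * g⁻¹ := by group
        _ = g * (c * (g⁻¹ * y * g⁻¹⁻¹)) * g⁻¹ := by rw [h1]
        _ = g * c * g⁻¹ * y := by group⟩
    have hSP : (S : Subgroup G) ≤ centralizer P := fun s hs => mem_centralizer_iff.2 fun y ⟨w, hw, e⟩ =>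
      e ▸ (mem_centralizer_iff.1 (h.pow_central hZ hS hw).2 s hs).symm
    have hPK : ¬ centralizer P ≤ K := fun hle => h.sup_ne_top (by
      have h1 := h.relIndex
      rw [relIndex_eq_one.2 (hSP.trans hle)] at h1
      exact absurd h1 (Nat.one_lt_pow (by have := h.pos; omega) hp.out.one_lt).ne)
    have htop : centralizer P = ⊤ := by
      have h1 := h.gen hPn hPK
      rwa [sup_eq_left.2 hSP] at h1
    exact (mem_centralizer_iff.1 (htop.ge (mem_top g)) _ ⟨v, hv, rfl⟩).symm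
  have hVc : ∀ a ∈ vS S, ∀ b ∈ vS S, a * b = b * a := fun a ha b hb => h.vS_comm hb (h.vS_le ha).1
  have hpow : ∀ c ∈ C, c ^ p ∈ centralizer (vS S : Set G) := by
    intro c hc
    refine mem_centralizer_iff.2 fun v hv => ?_
    set w := ⁅c, v⁆ with hw
    have hwV : w ∈ vS S := by
      rw [hw, commutatorElement_def]
      exact mul_mem ((vS_normal S).conj_mem v hv c) (inv_mem hv)
    have hcv : c * v * c⁻¹ = w * v := by rw [hw, commutatorElement_def]; group
    have hwp : w ^ p = 1 := by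
      have h1 : c * v ^ p * c⁻¹ = w ^ p * v ^ p := by
        rw [← conj_pow, hcv, (show Commute w v from hVc w hwV v hv).mul_pow]
      rw [mem_center_iff.1 (hfix v hv) c, mul_inv_cancel_right] at h1
      simpa using h1.symm
    have hwC : c * w = w * c :=
      (mem_centralizer_iff.1 hc w ((CfsgLib.PGroup.mem_omegaOne_iff_of_comm hVc).2 ⟨hwV, hwp⟩)).symm
    have hit : ∀ j : ℕ, c ^ j * v * (c ^ j)⁻¹ = w ^ j * v := by
      intro j
      induction j with
      | zero => simp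
      | succ j ih =>
        calc c ^ (j + 1) * v * (c ^ (j + 1))⁻¹ = c * (c ^ j * v * (c ^ j)⁻¹) * c⁻¹ := by rw [pow_succ']; group
          _ = (c * w ^ j * c⁻¹) * (c * v * c⁻¹) := by rw [ih]; group
          _ = w ^ (j + 1) * v := by
            rw [(show Commute c w from hwC).pow_right j |>.eq, mul_inv_cancel_right, hcv, pow_succ, mul_assoc]
    have h2 := hit p
    rw [hwp, one_mul, mul_inv_eq_iff_eq_mul] at h2
    exact h2.symm
  by_contra hle
  -- the image in the quotient would be a normal `p`-subgroup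
  set Cb := C.map (QuotientGroup.mk' K) with hCb
  haveI : Cb.Normal := (inferInstance : C.Normal).map _ (QuotientGroup.mk'_surjective K)
  have hCp : IsPGroup p Cb := fun y => by
    obtain ⟨c, hc, e⟩ := y.2
    refine ⟨1, Subtype.ext ?_⟩
    show (y : G ⧸ K) ^ p ^ 1 = 1
    rw [pow_one, ← e, ← map_pow]
    exact (QuotientGroup.eq_one_iff _).2 (h.centralizer_le_K hZ (hpow c hc))
  have hCS : Cb ≤ ((bar S K : Sylow p (G ⧸ K)) : Subgroup (G ⧸ K)) :=
    (CfsgLib.Cores.le_pCore hCp).trans (CfsgLib.Cores.pCore_le_sylow _)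
  have hne : Cb ≠ ⊥ := fun hb => hle (by
    rw [hCb, Subgroup.map_eq_bot_iff, QuotientGroup.ker_mk'] at hb
    exact hb)
  have h1 := h.like.gen (bar S K) Cb inferInstance hne
  rw [sup_eq_right.2 hCS] at h1
  exact h.like.proper (bar S K) h1

/-- What replaces a centrally large subgroup inside `O_p(G)`. -/
def pushR (S : Sylow p G) (K R : Subgroup G) : Subgroup G := (R ⊓ K) ⊔ vS S

theorem Hyp.pushR_le (h : Hyp n S K) {R : Subgroup G} (hR : R ≤ (S : Subgroup G)) :
    pushR S K R ≤ pCore p G :=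
  sup_le (fun _ hx => h.inf_eq.le ⟨hR hx.1, hx.2⟩) (h.vS_le.trans inf_le_left)

omit [K.Normal] in
theorem card_relIndex (R : Subgroup G) : Nat.card (R ⊓ K : Subgroup G) * K.relIndex R = Nat.card R := by
  rw [← inf_relIndex_left, ← relIndex_bot_left, relIndex_mul_relIndex _ _ _ bot_le inf_le_left,
    relIndex_bot_left]

/-- The replacement keeps the measure, and for a subgroup with centre outside `K` also the order. -/
theorem Hyp.push_measure (h : Hyp n S K) (hZ : ¬ zS S ≤ center G)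
    (hS : (S : Subgroup G) ≤ centralizer (zjGen 0 (S : Subgroup G) : Set G)) {R : Subgroup G}
    (hR : R ≤ (S : Subgroup G)) (hRC : (S : Subgroup G) ⊓ centralizer (R : Set G) ≤ R) (hRK : ¬ R ≤ K)
    (hmax : Nat.card (pushR S K R) * Nat.card (czOf (pushR S K R)) ≤ Nat.card R * Nat.card (czOf R)) :
    Nat.card R * Nat.card (czOf R) ≤ Nat.card (pushR S K R) * Nat.card (czOf (pushR S K R)) ∧
      (¬ czOf R ≤ K → Nat.card (pushR S K R) = Nat.card R ∧ K.relIndex (czOf R) = p ^ n ∧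
        vS S ⊓ czOf R = fixS S ∧ (czOf R ⊓ K) ⊔ vS S ≤ czOf (pushR S K R)) := by
  set V := vS S with hVdef
  set W := czOf R with hW
  set R' := pushR S K R with hR'
  obtain ⟨r, hr, hrK⟩ := SetLike.not_le_iff_exists.1 hRK
  have hRX : R ⊓ K ≤ pCore p G := fun x hx => h.inf_eq.le ⟨hR hx.1, hx.2⟩
  have hWR : W ≤ R := inf_le_left
  have hVW : V ⊓ W = fixS S := by
    refine le_antisymm (fun v hv => h.mem_fix hZ hS (hR hr) hrK hv.1 (mem_centralizer_iff.1 hv.2.2 r hr))
      fun v hv => ⟨hv.1, hRC ⟨h.vS_le_S hv.1, centralizer_le hR hv.2⟩, centralizer_le hR hv.2⟩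
  have hWV : (W ⊓ K) ⊓ V = fixS S := by
    refine le_antisymm (fun v hv => hVW.le ⟨hv.2, hv.1.1⟩) fun v hv => ?_
    have h1 := hVW.ge hv
    exact ⟨⟨h1.2, h.pCore_le (h.vS_le h1.1).1⟩, h1.1⟩
  have hVd : Nat.card (fixS S) * p ^ n = Nat.card V := by
    rw [← h.fix_relIndex hZ hS, ← card_relIndex (K := fixS S) V, inf_eq_right.2 (show fixS S ≤ V from inf_le_left)]
  have hWK : Nat.card ((W ⊓ K) ⊔ V : Subgroup G) = Nat.card (W ⊓ K : Subgroup G) * p ^ n := by
    have h1 := CfsgLib.Transfer.card_mul_card_of_commute (W ⊓ K) V fun b hb c hc =>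
      h.vS_comm hc (hRX ⟨hWR hb.1, hb.2⟩)
    rw [hWV, ← hVd] at h1
    refine Nat.eq_of_mul_eq_mul_right (Nat.card_pos (α := fixS S)) ?_
    rw [← h1]; ring
  have hle : (W ⊓ K) ⊔ V ≤ czOf R' := by
    refine sup_le (le_inf ((inf_le_inf_right K hWR).trans le_sup_left) ?_) (le_inf le_sup_right ?_)
    · rw [le_centralizer_iff]
      refine sup_le (fun x hx => mem_centralizer_iff.2 fun w hw => ?_)
        (fun v hv => mem_centralizer_iff.2 fun w hw => h.vS_comm hv (hRX ⟨hWR hw.1, hw.2⟩))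
      exact (mem_centralizer_iff.1 hw.1.2 x hx.1).symm
    · rw [le_centralizer_iff]
      refine sup_le (fun x hx => mem_centralizer_iff.2 fun v hv => (h.vS_comm hv (hRX hx)).symm)
        (fun x hx => mem_centralizer_iff.2 fun v hv => h.vS_comm hx (h.vS_le hv).1)
  have hcR : Nat.card R' * Nat.card ((R ⊓ K) ⊓ V : Subgroup G) = Nat.card (R ⊓ K : Subgroup G) * Nat.card V :=
    (CfsgLib.Transfer.card_mul_card_of_commute (R ⊓ K) V fun b hb c hc => h.vS_comm hc (hRX hb)).symm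
  have hcard : Nat.card (R ⊓ K : Subgroup G) * K.relIndex R = Nat.card R := card_relIndex R
  have hcardW : Nat.card (W ⊓ K : Subgroup G) * K.relIndex W = Nat.card W := card_relIndex W
  have he : K.relIndex R ≤ p ^ n := h.relIndex ▸ relIndex_le_of_le_right hR index_ne_zero_of_finite
  have he' : K.relIndex W ≤ p ^ n :=
    h.relIndex ▸ relIndex_le_of_le_right (hWR.trans hR) index_ne_zero_of_finite
  have hZ' : Nat.card (W ⊓ K : Subgroup G) * p ^ n ≤ Nat.card (czOf R') := hWK ▸ card_le_of_le hle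
  by_cases hWK' : W ≤ K
  · refine ⟨?_, fun hc => absurd hWK' hc⟩
    rw [inf_eq_left.2 hWK'] at hZ'
    have h1 : Nat.card (R ⊓ K : Subgroup G) ≤ Nat.card R' := card_le_of_le le_sup_left
    calc Nat.card R * Nat.card W ≤ (Nat.card (R ⊓ K : Subgroup G) * p ^ n) * Nat.card W :=
          Nat.mul_le_mul_right _ (hcard ▸ Nat.mul_le_mul_left _ he)
      _ = Nat.card (R ⊓ K : Subgroup G) * (Nat.card W * p ^ n) := by ring
      _ ≤ _ := Nat.mul_le_mul h1 hZ'
  obtain ⟨w, hw, hwK⟩ := SetLike.not_le_iff_exists.1 hWK'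
  have hRV : (R ⊓ K) ⊓ V = fixS S := by
    refine le_antisymm (fun v hv => h.mem_fix hZ hS (hR (hWR hw)) hwK hv.2
      (mem_centralizer_iff.1 hw.2 v hv.1.1).symm) fun v hv => ?_
    have h1 := hWV.ge hv
    exact ⟨⟨hWR h1.1.1, h1.1.2⟩, h1.2⟩
  have hR'card : Nat.card R' = Nat.card (R ⊓ K : Subgroup G) * p ^ n := by
    rw [hRV, ← hVd] at hcR
    refine Nat.eq_of_mul_eq_mul_right (Nat.card_pos (α := fixS S)) ?_
    rw [hcR]; ring
  have h1 : Nat.card R ≤ Nat.card R' := by rw [hR'card, ← hcard]; exact Nat.mul_le_mul_left _ he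
  have h2 : Nat.card W ≤ Nat.card (czOf R') := (hcardW ▸ Nat.mul_le_mul_left _ he').trans hZ'
  refine ⟨Nat.mul_le_mul h1 h2, fun _ => ⟨le_antisymm ?_ h1, le_antisymm he' ?_, hVW, hle⟩⟩
  · refine Nat.le_of_mul_le_mul_right ((Nat.mul_le_mul_left _ h2).trans hmax) Nat.card_pos
  · have h3 : Nat.card (czOf R') ≤ Nat.card W :=
      Nat.le_of_mul_le_mul_left ((Nat.mul_le_mul_right _ h1).trans hmax) Nat.card_pos
    exact Nat.le_of_mul_le_mul_left (hcardW.symm ▸ hZ'.trans h3) Nat.card_pos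

/-- The replacement has as large an omega. -/
theorem Hyp.push_omega (h : Hyp n S K) (hZ : ¬ zS S ≤ center G)
    (hS : (S : Subgroup G) ≤ centralizer (zjGen 0 (S : Subgroup G) : Set G)) {R : Subgroup G}
    (hR : R ≤ (S : Subgroup G)) (hRC : (S : Subgroup G) ⊓ centralizer (R : Set G) ≤ R) (hRK : ¬ R ≤ K)
    (hmax : Nat.card (pushR S K R) * Nat.card (czOf (pushR S K R)) ≤ Nat.card R * Nat.card (czOf R))
    (hW : ¬ czOf R ≤ K) :
    Nat.card (omegaOne p (czOf R)) ≤ Nat.card (omegaOne p (czOf (pushR S K R))) := by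
  obtain ⟨-, hq, hVW, hle⟩ := (h.push_measure hZ hS hR hRC hRK hmax).2 hW
  obtain ⟨r₀, hr₀, hr₀K⟩ := SetLike.not_le_iff_exists.1 hRK
  set W := czOf R with hWdef
  set OW := omegaOne p W with hOW
  set OV := omegaOne p (vS S) with hOV
  haveI hn : OV.Normal := CfsgLib.PGroup.omegaOne_normal p (vS S)
  have hVc : ∀ a ∈ vS S, ∀ b ∈ vS S, a * b = b * a := fun a ha b hb => h.vS_comm hb (h.vS_le ha).1
  have hOVle : OV ≤ vS S := CfsgLib.PGroup.omegaOne_le p _
  have hlow : p ^ n ≤ (fixS S).relIndex OV := by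
    refine (h.le_centralizer_relIndex hOVle (h.centralizer_omega_le hZ hS) (hR hr₀) hr₀K).trans ?_
    rw [← inf_relIndex_left (H := OV) (fixS S)]
    refine relIndex_le_of_le_left ?_ index_ne_zero_of_finite
    exact le_inf inf_le_left (inf_le_right.trans (inf_le_right.trans (centralizer_le
      (Set.singleton_subset_iff.2 (hR hr₀)))))
  have hcomm : ∀ b ∈ OW ⊓ K, ∀ c ∈ OV, b * c = c * b := fun b hb c hc =>
    h.vS_comm (hOVle hc) (h.inf_eq.le ⟨hR (CfsgLib.PGroup.omegaOne_le p W hb.1).1, hb.2⟩)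
  have hinf : (OW ⊓ K) ⊓ OV = OV ⊓ fixS S := by
    refine le_antisymm (fun v hv => ⟨hv.2, hVW.le ⟨hOVle hv.2, CfsgLib.PGroup.omegaOne_le p W hv.1.1⟩⟩)
      fun v hv => ⟨⟨?_, h.pCore_le (h.vS_le (hOVle hv.1)).1⟩, hv.1⟩
    exact CfsgLib.PGroup.mem_omegaOne (hVW.ge hv.2).2 ((CfsgLib.PGroup.mem_omegaOne_iff_of_comm hVc).1 hv.1).2
  have hsub : (OW ⊓ K) ⊔ OV ≤ omegaOne p (czOf (pushR S K R)) :=
    sup_le (fun x hx => CfsgLib.PGroup.mem_omegaOne
        (hle (mem_sup_left ⟨CfsgLib.PGroup.omegaOne_le p W hx.1, hx.2⟩))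
        ((CfsgLib.PGroup.mem_omegaOne_iff_of_comm czOf_comm).1 hx.1).2)
      (CfsgLib.PGroup.omegaOne_mono (le_sup_right.trans hle))
  have h1 := CfsgLib.Transfer.card_mul_card_of_commute (OW ⊓ K) OV hcomm
  rw [hinf] at h1
  have h2 : Nat.card (OV ⊓ fixS S : Subgroup G) * (fixS S).relIndex OV = Nat.card OV := card_relIndex OV
  refine le_trans ?_ (card_le_of_le hsub)
  rw [← card_relIndex (K := K) OW]
  refine Nat.le_of_mul_le_mul_right ?_ (Nat.card_pos (α := (OV ⊓ fixS S : Subgroup G)))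
  rw [← h1, ← h2]
  have hOW : K.relIndex OW ≤ (fixS S).relIndex OV := le_trans (h.relIndex ▸ relIndex_le_of_le_right
    ((CfsgLib.PGroup.omegaOne_le p W).trans (inf_le_left.trans hR)) index_ne_zero_of_finite) hlow
  calc Nat.card (OW ⊓ K : Subgroup G) * K.relIndex OW * Nat.card (OV ⊓ fixS S : Subgroup G)
      ≤ Nat.card (OW ⊓ K : Subgroup G) * (fixS S).relIndex OV * Nat.card (OV ⊓ fixS S : Subgroup G) :=
        Nat.mul_le_mul_right _ (Nat.mul_le_mul_left _ hOW)
    _ = _ := by ring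

/-- If also the centres have as large an omega, the powers are taken inside `K`. -/
theorem Hyp.push_pow (h : Hyp n S K) (hZ : ¬ zS S ≤ center G)
    (hS : (S : Subgroup G) ≤ centralizer (zjGen 0 (S : Subgroup G) : Set G)) {R : Subgroup G}
    (hR : R ≤ (S : Subgroup G)) (hRC : (S : Subgroup G) ⊓ centralizer (R : Set G) ≤ R) (hRK : ¬ R ≤ K)
    (hmax : Nat.card (pushR S K R) * Nat.card (czOf (pushR S K R)) ≤ Nat.card R * Nat.card (czOf R))
    (hW : ¬ czOf R ≤ K) (hdec : ∀ r ∈ R, ∃ x ∈ R ⊓ K, ∃ w ∈ czOf R, r = x * w)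
    (hΩ : Nat.card (omegaOne p (czOf (pushR S K R))) ≤ Nat.card (omegaOne p (czOf R))) :
    ∀ r ∈ R, ∃ x ∈ R ⊓ K, r ^ p = x ^ p := by
  obtain ⟨-, hq, hVW, hle⟩ := (h.push_measure hZ hS hR hRC hRK hmax).2 hW
  obtain ⟨r₀, hr₀, hr₀K⟩ := SetLike.not_le_iff_exists.1 hRK
  set W := czOf R with hWdef
  set OW := omegaOne p W with hOW
  set OV := omegaOne p (vS S) with hOV
  haveI hn : OV.Normal := CfsgLib.PGroup.omegaOne_normal p (vS S)
  have hVc : ∀ a ∈ vS S, ∀ b ∈ vS S, a * b = b * a := fun a ha b hb => h.vS_comm hb (h.vS_le ha).1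
  have hOVle : OV ≤ vS S := CfsgLib.PGroup.omegaOne_le p _
  have hlow : p ^ n ≤ (fixS S).relIndex OV := by
    refine (h.le_centralizer_relIndex hOVle (h.centralizer_omega_le hZ hS) (hR hr₀) hr₀K).trans ?_
    rw [← inf_relIndex_left (H := OV) (fixS S)]
    refine relIndex_le_of_le_left ?_ index_ne_zero_of_finite
    exact le_inf inf_le_left (inf_le_right.trans (inf_le_right.trans (centralizer_le
      (Set.singleton_subset_iff.2 (hR hr₀)))))
  have hcomm : ∀ b ∈ OW ⊓ K, ∀ c ∈ OV, b * c = c * b := fun b hb c hc =>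
    h.vS_comm (hOVle hc) (h.inf_eq.le ⟨hR (CfsgLib.PGroup.omegaOne_le p W hb.1).1, hb.2⟩)
  have hinf : (OW ⊓ K) ⊓ OV = OV ⊓ fixS S := by
    refine le_antisymm (fun v hv => ⟨hv.2, hVW.le ⟨hOVle hv.2, CfsgLib.PGroup.omegaOne_le p W hv.1.1⟩⟩)
      fun v hv => ⟨⟨?_, h.pCore_le (h.vS_le (hOVle hv.1)).1⟩, hv.1⟩
    exact CfsgLib.PGroup.mem_omegaOne (hVW.ge hv.2).2 ((CfsgLib.PGroup.mem_omegaOne_iff_of_comm hVc).1 hv.1).2
  have hsub : (OW ⊓ K) ⊔ OV ≤ omegaOne p (czOf (pushR S K R)) :=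
    sup_le (fun x hx => CfsgLib.PGroup.mem_omegaOne
        (hle (mem_sup_left ⟨CfsgLib.PGroup.omegaOne_le p W hx.1, hx.2⟩))
        ((CfsgLib.PGroup.mem_omegaOne_iff_of_comm czOf_comm).1 hx.1).2)
      (CfsgLib.PGroup.omegaOne_mono (le_sup_right.trans hle))
  have h1 := CfsgLib.Transfer.card_mul_card_of_commute (OW ⊓ K) OV hcomm
  rw [hinf] at h1
  have h2 : Nat.card (OV ⊓ fixS S : Subgroup G) * (fixS S).relIndex OV = Nat.card OV := card_relIndex OV
  have h3 : Nat.card (OW ⊓ K : Subgroup G) * (fixS S).relIndex OV ≤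
      Nat.card (OW ⊓ K : Subgroup G) * K.relIndex OW := by
    rw [card_relIndex OW]
    refine le_trans ?_ hΩ
    refine le_trans ?_ (card_le_of_le hsub)
    refine Nat.le_of_mul_le_mul_right ?_ (Nat.card_pos (α := (OV ⊓ fixS S : Subgroup G)))
    rw [← h1, ← h2]
    exact le_of_eq (by ring)
  have h4 : p ^ n ≤ K.relIndex OW := hlow.trans (Nat.le_of_mul_le_mul_left h3 Nat.card_pos)
  have hgen : OW ⊔ (W ⊓ K) = W := by
    refine le_antisymm (sup_le (CfsgLib.PGroup.omegaOne_le p W) inf_le_left) ?_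
    have h5 := relIndex_mul_relIndex (W ⊓ K) (OW ⊔ (W ⊓ K)) W le_sup_right
      (sup_le (CfsgLib.PGroup.omegaOne_le p W) inf_le_left)
    rw [inf_relIndex_left, hq] at h5
    have h6 : p ^ n ≤ (W ⊓ K).relIndex (OW ⊔ (W ⊓ K)) :=
      h4.trans ((relIndex_le_of_le_left inf_le_right index_ne_zero_of_finite).trans
        (relIndex_le_of_le_right le_sup_left index_ne_zero_of_finite))
    refine relIndex_eq_one.1 (le_antisymm ?_ (Nat.pos_of_ne_zero index_ne_zero_of_finite))
    refine Nat.le_of_mul_le_mul_left ?_ (pow_pos hp.out.pos n)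
    rw [mul_one]
    exact (Nat.mul_le_mul_right _ h6).trans h5.le
  intro r hr
  obtain ⟨x, hx, w, hw, rfl⟩ := hdec r hr
  obtain ⟨o, ho, k, hk, rfl⟩ := CfsgLib.Solvable.exists_mul_of_mem_sup (K := OW) (A := W ⊓ K)
    (fun k hk => CfsgLib.Solvable.mem_normalizer_of_conj_mem fun o ho => by
      rw [czOf_comm k hk.1 o (CfsgLib.PGroup.omegaOne_le p W ho), mul_inv_cancel_right]; exact ho)
    (hgen.ge hw)
  have hop : o ^ p = 1 := ((CfsgLib.PGroup.mem_omegaOne_iff_of_comm czOf_comm).1 ho).2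
  have hcW : ∀ u ∈ W, ∀ y ∈ R, Commute u y := fun u hu y hy => (mem_centralizer_iff.1 hu.2 y hy).symm
  refine ⟨x * k, mul_mem hx ⟨hk.1.1, hk.2⟩, ?_⟩
  have hoR := CfsgLib.PGroup.omegaOne_le p W ho
  rw [show x * (o * k) = o * (x * k) by rw [← mul_assoc, ← (hcW o hoR x hx.1).eq, mul_assoc],
    (hcW o hoR (x * k) (mul_mem hx.1 hk.1.1)).mul_pow, hop, one_mul]

end CfsgLib.LocalEven.RankOne
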