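import Mathlib

/-!
Orbit counting for an element of prime power order acting on a `p`-group.
-/

set_option autoImplicit false

namespace CfsgLib.LocalEven.RankOne

open Subgroup

variable {G : Type*} [Group G] [Finite G] {p : ℕ} [hp : Fact p.Prime]

/-- An element of `r`-power order with `z ^ r ^ a` moving `V` forces a large index of any fixed subgroup. -/
theorem index_bound {V W : Subgroup G} (hV : IsPGroup p V) {z : G} (hz : z ∈ normalizer (V : Set G))
    {r m a : ℕ} [hr : Fact r.Prime] (hrp : r ≠ p) (ho : z ^ r ^ m = 1)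
    (hmove : ∃ v ∈ V, z ^ r ^ a * v ≠ v * z ^ r ^ a) (hW : W ≤ V) (hfix : ∀ w ∈ W, z * w = w * z) :
    ∃ k, 0 < k ∧ r ^ (a + 1) ∣ p ^ k - 1 ∧ p ^ k ≤ W.relIndex V := by
  classical
  set z₀ := z ^ r ^ a with hz₀
  set W1 := V ⊓ centralizer ({z₀} : Set G) with hW1
  have hWW : W ≤ W1 := fun w hw => ⟨hW hw, mem_centralizer_singleton_iff.2
    ((show Commute z w from hfix w hw).pow_left _).eq.symm⟩
  have hzn : ∀ g ∈ zpowers z, g ∈ normalizer (V : Set G) := fun g hg => (zpowers_le.2 hz) hg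
  let α := {v : G // v ∈ V ∧ v ∉ W1}
  have hstable : ∀ g ∈ zpowers z, ∀ v : G, v ∈ V ∧ v ∉ W1 → g * v * g⁻¹ ∈ V ∧ g * v * g⁻¹ ∉ W1 := by
    intro g hg v hv
    refine ⟨(mem_normalizer_iff.1 (hzn g hg) v).1 hv.1, fun hc => hv.2 ⟨hv.1, ?_⟩⟩
    obtain ⟨i, rfl⟩ := mem_zpowers_iff.1 hg
    have h1 := mem_centralizer_singleton_iff.1 hc.2
    have h2 : Commute (z ^ i) z₀ := ((Commute.refl z).zpow_left i).pow_right _
    refine mem_centralizer_singleton_iff.2 (mul_left_cancel (a := z ^ i) (mul_right_cancel (b := (z ^ i)⁻¹) ?_))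
    calc z ^ i * (v * z₀) * (z ^ i)⁻¹ = (z ^ i * v * (z ^ i)⁻¹) * (z ^ i * z₀ * (z ^ i)⁻¹) := by group
      _ = z ^ i * v * (z ^ i)⁻¹ * z₀ := by rw [h2.eq, mul_inv_cancel_right]
      _ = z₀ * (z ^ i * v * (z ^ i)⁻¹) := h1
      _ = (z ^ i * z₀ * (z ^ i)⁻¹) * (z ^ i * v * (z ^ i)⁻¹) := by rw [h2.eq, mul_inv_cancel_right]
      _ = z ^ i * (z₀ * v) * (z ^ i)⁻¹ := by group
  letI act : MulAction ↥(zpowers z) α :=
    { smul := fun g v => ⟨g * v * (g : G)⁻¹, hstable g g.2 v v.2⟩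
      one_smul := fun v => Subtype.ext (show (1 : G) * _ * (1 : G)⁻¹ = _ by simp)
      mul_smul := fun g h v => Subtype.ext (show (g * h : G) * _ * ((g : G) * h)⁻¹ =
        g * ((h : G) * _ * (h : G)⁻¹) * (g : G)⁻¹ by group) }
  have horb : ∀ v : α, r ^ (a + 1) ∣ Nat.card (MulAction.orbit ↥(zpowers z) v) := by
    intro v
    rw [Nat.card_coe_set_eq, ← MulAction.index_stabilizer]
    set St := MulAction.stabilizer ↥(zpowers z) v
    have hd : St.index ∣ r ^ m := (index_dvd_card St).trans (by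
      rw [Nat.card_zpowers]; exact orderOf_dvd_of_pow_eq_one ho)
    obtain ⟨i, -, hi⟩ := (Nat.dvd_prime_pow hr.out).1 hd
    rw [hi]
    refine pow_dvd_pow r ?_
    by_contra hlt
    haveI : IsMulCommutative ↥(zpowers z) := inferInstance
    haveI : St.Normal := inferInstance
    have h1 := St.pow_index_mem ⟨z, mem_zpowers z⟩
    rw [hi] at h1
    have h2 := pow_mem h1 (r ^ (a - i))
    rw [← pow_mul, ← pow_add, show i + (a - i) = a by omega] at h2
    have h3 : z₀ * (v : G) * z₀⁻¹ = v := congrArg Subtype.val (MulAction.mem_stabilizer_iff.1 h2)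
    exact v.2.2 ⟨v.2.1, mem_centralizer_singleton_iff.2 (mul_inv_eq_iff_eq_mul.1 h3).symm⟩
  have hdvd : r ^ (a + 1) ∣ Nat.card α := by
    haveI := Fintype.ofFinite (MulAction.orbitRel.Quotient ↥(zpowers z) α)
    rw [Nat.card_congr (MulAction.selfEquivSigmaOrbits ↥(zpowers z) α), Nat.card_sigma]
    exact Finset.dvd_sum fun q _ => horb _
  have hα : Nat.card α + Nat.card W1 = Nat.card V := by
    have e : α ≃ {v : V // ¬ (v : G) ∈ W1} :=
      { toFun := fun v => ⟨⟨v.1, v.2.1⟩, v.2.2⟩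
        invFun := fun v => ⟨v.1.1, v.1.2, v.2⟩
        left_inv := fun v => rfl
        right_inv := fun v => rfl }
    have e' : W1 ≃ {v : V // (v : G) ∈ W1} :=
      { toFun := fun v => ⟨⟨v.1, v.2.1⟩, v.2⟩
        invFun := fun v => ⟨v.1.1, v.2⟩
        left_inv := fun v => rfl
        right_inv := fun v => rfl }
    rw [Nat.card_congr e, Nat.card_congr e', add_comm, ← Nat.card_sum]
    exact Nat.card_congr (Equiv.sumCompl _)
  obtain ⟨i, hi⟩ := IsPGroup.iff_card.1 (hV.to_le (inf_le_left : W1 ≤ V))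
  obtain ⟨j, hj⟩ := IsPGroup.iff_card.1 hV
  have hlt : Nat.card W1 < Nat.card V := by
    obtain ⟨v, hv, hne⟩ := hmove
    haveI : Nonempty α := ⟨⟨v, hv, fun h => hne (mem_centralizer_singleton_iff.1 h.2).symm⟩⟩
    have := Nat.card_pos (α := α)
    omega
  rw [hi, hj] at hlt
  have hij : i < j := (Nat.pow_lt_pow_iff_right hp.out.one_lt).1 hlt
  obtain ⟨k, rfl⟩ : ∃ k, j = i + k := ⟨j - i, by omega⟩
  refine ⟨k, by omega, ?_, ?_⟩
  · have h1 : Nat.card α = p ^ i * (p ^ k - 1) := by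
      rw [hi, hj] at hα
      rw [Nat.mul_sub, mul_one, ← pow_add]; omega
    refine Nat.Coprime.dvd_of_dvd_mul_left ?_ (h1 ▸ hdvd)
    exact Nat.Coprime.pow _ _ ((Nat.coprime_primes hr.out hp.out).2 hrp)
  · have h1 : W1.relIndex V = p ^ k := by
      have h2 := relIndex_mul_relIndex (⊥ : Subgroup G) W1 V bot_le inf_le_left
      rw [relIndex_bot_left, relIndex_bot_left, hi, hj, pow_add] at h2
      exact Nat.eq_of_mul_eq_mul_left (pow_pos hp.out.pos _) h2
    rw [← h1]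
    exact relIndex_le_of_le_left hWW index_ne_zero_of_finite

end CfsgLib.LocalEven.RankOne
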