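import Cfsg.Agent.Lib.LocalEven.RankOne.Setting
import Cfsg.Agent.Lib.Transfer.Counting

/-!
The module `⟨Z(S)^G⟩` and the abelian subgroups of largest order.
-/

set_option autoImplicit false

namespace CfsgLib.LocalEven.RankOne

open Cfsg Subgroup
open CfsgLib.PStab
open CfsgLib.Fusion (conjSub conj_mem_conjSub conjSub_eq_iff_mem_normalizer card_conjSub)
open CfsgLib.Techniques.Functor (lt_norm)
open scoped commutatorElement

variable {G : Type*} [Group G] [Finite G] {p n : ℕ} [hp : Fact p.Prime]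

/-- The centre of the Sylow subgroup. -/
def zS (S : Sylow p G) : Subgroup G := (S : Subgroup G) ⊓ centralizer ((S : Subgroup G) : Set G)

/-- The normal subgroup it generates. -/
def vS (S : Sylow p G) : Subgroup G := normalClosure (zS S : Set G)

instance vS_normal (S : Sylow p G) : (vS S).Normal := normalClosure_normal

theorem zS_le_vS (S : Sylow p G) : zS S ≤ vS S := le_normalClosure

theorem zS_le_zjGen (S : Sylow p G) : zS S ≤ zjGen 0 (S : Subgroup G) := fun _ hx =>
  mem_zjGen_of_central hx.1 hx.2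

variable {S : Sylow p G} {K : Subgroup G} [K.Normal]

theorem Hyp.vS_le (h : Hyp n S K) :
    vS S ≤ pCore p G ⊓ centralizer (pCore p G : Set G) := by
  refine normalClosure_le_normal fun x hx => ?_
  have h1 : x ∈ centralizer (pCore p G : Set G) :=
    centralizer_le (CfsgLib.Cores.pCore_le_sylow S) hx.2
  exact ⟨h.cE h1, h1⟩

theorem Hyp.vS_comm (h : Hyp n S K) {v x : G} (hv : v ∈ vS S) (hx : x ∈ pCore p G) : x * v = v * x :=
  mem_centralizer_iff.1 (h.vS_le hv).2 x hx

theorem Hyp.vS_isPGroup (h : Hyp n S K) : IsPGroup p (vS S) :=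
  (CfsgLib.Cores.isPGroup_pCore p).to_le (h.vS_le.trans inf_le_left)

theorem Hyp.vS_le_S (h : Hyp n S K) : vS S ≤ (S : Subgroup G) :=
  (h.vS_le.trans inf_le_left).trans (CfsgLib.Cores.pCore_le_sylow S)

/-- The trivial alternatives. -/
theorem Hyp.of_jGen_le (h : Hyp n S K) (hJ : jGen 0 (S : Subgroup G) ≤ pCore p G) :
    zS S ≤ center G ∨ ((S : Subgroup G) ⊓ centralizer (zjGen 0 (S : Subgroup G) : Set G)).Normal := by
  set Q := pCore p G with hQ
  have hQS : Q ≤ (S : Subgroup G) := CfsgLib.Cores.pCore_le_sylow S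
  obtain ⟨A₀, hA₀⟩ := maxAdm_nonempty 0 (S : Subgroup G)
  have e : jGen 0 Q = jGen 0 (S : Subgroup G) :=
    le_antisymm (sSup_le fun A hA => le_jGen (maxAdm_of_le hQS hA₀ ((le_jGen hA₀).trans hJ) hA))
      (sSup_le fun A hA =>
        le_jGen ⟨(le_jGen hA).trans hJ, hA.2.1, fun B hB hBa => hA.2.2 B (hB.trans hQS) hBa⟩)
  haveI hn : (zjGen 0 (S : Subgroup G)).Normal := by
    refine normalizer_eq_top_iff.1 (top_unique ?_)
    rw [show zjGen 0 (S : Subgroup G) = zjGen 0 Q by rw [zjGen, zjGen, e]]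
    have hQn : normalizer (Q : Set G) = ⊤ := normalizer_eq_top Q
    exact hQn ▸ normalizer_le_normalizer_zjGen 0 Q
  set C := centralizer (zjGen 0 (S : Subgroup G) : Set G) with hC
  by_cases hCK : C ≤ K
  · right
    have e2 : (S : Subgroup G) ⊓ C = Q ⊓ C :=
      le_antisymm (le_inf (fun x hx => h.inf_eq.le ⟨hx.1, hCK hx.2⟩) inf_le_right) (inf_le_inf_right _ hQS)
    rw [e2]
    infer_instance
  · exact Or.inl (h.le_center_of inferInstance hCK (centralizer_le (zS_le_zjGen S))
      (le_centralizer_iff.1 inf_le_right))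

/-- An abelian subgroup of largest order outside `O_p(G)` normalised by the module. -/
theorem Hyp.exists_quad (h : Hyp n S K) (hJ : ¬ jGen 0 (S : Subgroup G) ≤ pCore p G) :
    ∃ A ∈ maxAdm 0 (S : Subgroup G), ¬ A ≤ pCore p G ∧ vS S ≤ normalizer (A : Set G) := by
  classical
  set Q := pCore p G with hQdef
  set V := vS S with hVdef
  have hQS : Q ≤ (S : Subgroup G) := CfsgLib.Cores.pCore_le_sylow S
  obtain ⟨A0, hA0, hA0X⟩ : ∃ A ∈ maxAdm 0 (S : Subgroup G), ¬ A ≤ Q := by
    by_contra hc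
    push Not at hc
    exact hJ (sSup_le hc)
  obtain ⟨A, ⟨hA, hAX⟩, hmax⟩ :=
    (Set.toFinite {A | A ∈ maxAdm 0 (S : Subgroup G) ∧ ¬ A ≤ Q}).exists_maximalFor
      (fun A : Subgroup G => Nat.card (A ⊓ V : Subgroup G)) _ ⟨A0, hA0, hA0X⟩
  refine ⟨A, hA, hAX, ?_⟩
  by_contra hVA
  set N := (S : Subgroup G) ⊓ normalizer (A : Set G) with hN
  have hVS : V ≤ (S : Subgroup G) := h.vS_le_S
  have hNV : N ≤ normalizer (V : Set G) := by rw [normalizer_eq_top V]; exact le_top
  obtain ⟨y, hy, hyN⟩ := SetLike.exists_of_lt (lt_norm (S.2.to_le (sup_le hVS inf_le_left))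
    (lt_of_le_not_ge (le_sup_right : N ≤ V ⊔ N) fun hle => hVA ((le_sup_left.trans hle).trans inf_le_right)))
  obtain ⟨b, hbV, n', hn', e⟩ := CfsgLib.Solvable.exists_mul_of_mem_sup (K := V) (A := N) hNV hy.1
  have hbN : b ∈ normalizer (N : Set G) := by
    have e2 : b = y * n'⁻¹ := by rw [e, mul_inv_cancel_right]
    rw [e2]
    exact mul_mem hy.2 (inv_mem (le_normalizer hn'))
  have hbA : b ∉ normalizer (A : Set G) := fun hb => hyN (by
    rw [e]; exact N.mul_mem ⟨hVS hbV, hb⟩ hn')
  have hAN : A ≤ N := le_inf hA.1 le_normalizer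
  have hVc : ∀ x ∈ V, ∀ y ∈ V, x * y = y * x := fun x hx y hy => h.vS_comm hy (h.vS_le hx).1
  have hR : ReplaceData A V b :=
    { comm := hA.2.1.1
      derived := commutator_le.2 fun x hx y hy => by
        rw [commutatorElement_eq_one_iff_mul_comm.2 (hVc x hx y hy)]; exact one_mem _
      normB := by rw [normalizer_eq_top V]; exact le_top
      memB := hbV
      conj := fun a ha => ((mem_normalizer_iff''.1 hbN a).1 (hAN ha)).2
      conj' := fun a ha => ((mem_normalizer_iff.1 hbN a).1 (hAN ha)).2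
      twist := Or.inl ⟨⟨fun x y => Subtype.ext (hVc x x.2 y y.2)⟩⟩ }
  have hA'S : replaced A b ≤ (S : Subgroup G) := by
    intro g hg
    obtain ⟨z, hz, a, ha, rfl⟩ := hR.mem_replaced_iff.1 hg
    exact mul_mem (hA.1 hz.1) (mul_mem (inv_mem (hA.1 ha))
      (mul_mem (mul_mem (inv_mem (hVS hbV)) (hA.1 ha)) (hVS hbV)))
  have hA' : replaced A b ∈ maxAdm 0 (S : Subgroup G) :=
    ⟨hA'S, ⟨hR.isMulCommutative_replaced, fun a _ => pow_zero a⟩,
      fun C hC hCa => hR.card_replaced.symm ▸ hA.2.2 C hC hCa⟩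
  have hlt := hR.inf_lt_replaced_inf hbA
  have hA'X : replaced A b ≤ Q := by
    by_contra hn'
    exact hlt.ne (eq_of_le_of_card_ge hlt.le (hmax ⟨hA', hn'⟩ (card_le_of_le hlt.le)))
  have hA'J : replaced A b ≤ jGen 0 Q :=
    le_jGen ⟨hA'X, hA'.2.1, fun C hC hCa => hA'.2.2 C (hC.trans hQS) hCa⟩
  have hJJ : jGen 0 Q ≤ jGen 0 (S : Subgroup G) := sSup_le fun B hB =>
    le_jGen (maxAdm_of_le hQS hA' hA'X hB)
  haveI hJn : (jGen 0 Q).Normal := by
    refine normalizer_eq_top_iff.1 (top_unique ?_)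
    have hQn : normalizer (Q : Set G) = ⊤ := normalizer_eq_top Q
    exact hQn ▸ normalizer_le_normalizer_jGen 0 Q
  have hVC : V ≤ centralizer (jGen 0 Q : Set G) :=
    normalClosure_le_normal fun x hx => centralizer_le hJJ (zS_le_zjGen S hx).2
  exact hbA (hR.replaced_le_normalizer (mem_of_commute_maxAdm (p := orderOf b) (Or.inl rfl) hA' (hVS hbV)
    (pow_orderOf_eq_one b) fun a ha => (mem_centralizer_iff.1 (hVC hbV) a (hA'J ha)).symm))

theorem Hyp.centralizer_le_K (h : Hyp n S K) (hZ : ¬ zS S ≤ center G) :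
    centralizer (vS S : Set G) ≤ K := by
  by_contra hle
  exact hZ (h.le_center_of inferInstance hle (centralizer_le (zS_le_vS S)) (le_centralizer_iff.1 inf_le_right))

/-- The centre of `G` has index at least `q ^ 2` in the module. -/
theorem Hyp.sq_le_center_relIndex (h : Hyp n S K) (hZ : ¬ zS S ≤ center G) :
    p ^ (2 * n) ≤ (vS S ⊓ center G).relIndex (vS S) := by
  classical
  set V := vS S with hVdef
  set C0 := V ⊓ center G with hC0
  have hCV := h.centralizer_le_K hZ
  have hVn : ∀ g : G, g ∈ normalizer (V : Set G) := fun g => by rw [normalizer_eq_top V]; trivial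
  obtain ⟨s, hs, hsK⟩ : ∃ s ∈ (S : Subgroup G), s ∉ K := by
    by_contra hc
    push Not at hc
    exact h.sup_ne_top (by
      rw [sup_eq_right.2 hc]
      by_contra hK
      have h1 := h.relIndex
      rw [relIndex_eq_one.2 hc] at h1
      exact (Nat.one_lt_pow (by have := h.pos; omega) hp.out.one_lt).ne h1)
  by_cases hn : 2 ≤ n
  · obtain ⟨r, a, hr, hrp, hmin, hpair⟩ := h.pair hn
    haveI := Fact.mk hr
    obtain ⟨g, z, m, -, hzm, hzK⟩ := hpair s hs hsK
    have hmove : ∃ v ∈ V, z ^ r ^ a * v ≠ v * z ^ r ^ a := by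
      by_contra hc
      push Not at hc
      exact hzK (hCV (mem_centralizer_iff.2 fun v hv => (hc v hv).symm))
    obtain ⟨k, hk, hkd, hkle⟩ := index_bound h.vS_isPGroup (hVn z) hrp hzm hmove
      (inf_le_left : C0 ≤ V) fun w hw => mem_center_iff.1 hw.2 z
    exact (Nat.pow_le_pow_right hp.out.pos (hmin k hk hkd)).trans hkle
  obtain rfl : n = 1 := by have := h.pos; omega
  obtain ⟨i, hi⟩ : ∃ i, C0.relIndex V = p ^ i := by
    obtain ⟨j, hj⟩ := IsPGroup.iff_card.1 h.vS_isPGroup
    obtain ⟨i, -, hi⟩ := (Nat.dvd_prime_pow hp.out).1 (hj ▸ relIndex_dvd_card C0 V)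
    exact ⟨i, hi⟩
  rw [hi]
  refine Nat.pow_le_pow_right hp.out.pos ?_
  by_contra hlt
  rcases (by omega : i = 0 ∨ i = 1) with rfl | rfl
  · rw [pow_zero, relIndex_eq_one] at hi
    exact hZ ((zS_le_vS S).trans (hi.trans inf_le_right))
  · -- a normal subgroup stabilising `V > C0 > 1`
    rw [pow_one] at hi
    let E : Subgroup G :=
      { carrier := {g | ∀ v ∈ V, ⁅g, v⁆ ∈ C0}
        one_mem' := fun v _ => by simp [one_mem]
        mul_mem' := fun {x y} hx hy v hv => by
          rw [show ⁅x * y, v⁆ = x * ⁅y, v⁆ * x⁻¹ * ⁅x, v⁆ by simp only [commutatorElement_def]; group]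
          exact mul_mem ((inferInstance : C0.Normal).conj_mem _ (hy v hv) x) (hx v hv)
        inv_mem' := fun {x} hx v hv => by
          rw [show ⁅x⁻¹, v⁆ = x⁻¹ * ⁅x, v⁆⁻¹ * x⁻¹⁻¹ by simp only [commutatorElement_def]; group]
          exact (inferInstance : C0.Normal).conj_mem _ (inv_mem (hx v hv)) _ }
    haveI hEn : E.Normal := ⟨fun x hx g v hv => by
      have h1 := (inferInstance : C0.Normal).conj_mem _ (hx _ ((vS_normal S).conj_mem v hv g⁻¹)) g
      rw [← CfsgLib.LocalEven.ZJFusion.commutator_conj] at h1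
      simpa [mul_assoc] using h1⟩
    have hEp : ∀ x ∈ E, x ^ p ∈ centralizer (V : Set G) := by
      intro x hx
      refine mem_centralizer_iff.2 fun v hv => ?_
      set c := ⁅x, v⁆ with hc
      have hcC : c ∈ center G := (hx v hv).2
      have hxv : x * v * x⁻¹ = c * v := by rw [hc, commutatorElement_def]; group
      have hit : ∀ j : ℕ, x ^ j * v * (x ^ j)⁻¹ = c ^ j * v := by
        intro j
        induction j with
        | zero => simp
        | succ j ih =>
          calc x ^ (j + 1) * v * (x ^ (j + 1))⁻¹ = x * (x ^ j * v * (x ^ j)⁻¹) * x⁻¹ := by rw [pow_succ']; group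
            _ = (x * c ^ j * x⁻¹) * (x * v * x⁻¹) := by rw [ih]; group
            _ = c ^ (j + 1) * v := by
              rw [mem_center_iff.1 (Subgroup.pow_mem _ hcC j) x, mul_inv_cancel_right, hxv, pow_succ, mul_assoc]
      have hvp : v ^ p ∈ center G := by
        haveI : (C0.subgroupOf V).Normal := inferInstance
        have h1 := (C0.subgroupOf V).pow_index_mem ⟨v, hv⟩
        rw [show (C0.subgroupOf V).index = p from hi] at h1
        exact h1.2
      have hcp : c ^ p = 1 := by
        have h1 : x * v ^ p * x⁻¹ = c ^ p * v ^ p := by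
          rw [← conj_pow, hxv, (show Commute c v from (mem_center_iff.1 hcC v).symm).mul_pow]
        rw [mem_center_iff.1 hvp x, mul_inv_cancel_right] at h1
        simpa using h1.symm
      have h2 := hit p
      rw [hcp, one_mul, mul_inv_eq_iff_eq_mul] at h2
      exact h2.symm
    have hSE : (S : Subgroup G) ≤ E := by
      intro x hx v hv
      haveI : (C0.subgroupOf (S : Subgroup G)).Normal := inferInstance
      set π := QuotientGroup.mk' (C0.subgroupOf (S : Subgroup G))
      have hπ : Function.Surjective π := QuotientGroup.mk'_surjective _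
      haveI hVn' : (V.subgroupOf (S : Subgroup G)).Normal := inferInstance
      haveI : ((V.subgroupOf (S : Subgroup G)).map π).Normal := hVn'.map _ hπ
      have hcard : Nat.card ((V.subgroupOf (S : Subgroup G)).map π) = p := by
        rw [← relIndex_ker, QuotientGroup.ker_mk', relIndex_subgroupOf h.vS_le_S, hi]
      have hle := CfsgLib.PGroup.le_center_of_card_eq (S.2.to_quotient _) _ hcard
      have hv' : π ⟨v, h.vS_le_S hv⟩ ∈ center _ := hle (mem_map_of_mem _ (mem_subgroupOf.2 hv))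
      have h1 : π ⁅(⟨x, hx⟩ : (S : Subgroup G)), ⟨v, h.vS_le_S hv⟩⁆ = 1 := by
        rw [map_commutatorElement, commutatorElement_eq_one_iff_mul_comm]
        exact mem_center_iff.1 hv' _
      have h2 := (QuotientGroup.eq_one_iff _).1 h1
      exact h2
    have h1 := h.gen hEn fun hle => hsK (hle (hSE hs))
    rw [sup_eq_left.2 hSE] at h1
    refine h.sup_ne_top (eq_top_iff.2 (h1.ge.trans ?_))
    refine (CfsgLib.LocalEven.ZJFusion.le_sup_of_pow_mem (p := p) (N := centralizer (V : Set G)) (L := E)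
      (show centralizer (V : Set G) ≤ E from fun c hc v hv => by
        rw [commutatorElement_eq_one_iff_mul_comm.2 (mem_centralizer_iff.1 hc v hv).symm]; exact one_mem _) (by rw [normalizer_eq_top]; exact le_top) S.2 hSE ?_
      fun x hx => ⟨1, by rw [pow_one]; exact hEp x hx⟩).trans ?_
    · intro hd
      exact S.not_dvd_index (hd.trans (relIndex_dvd_index_of_le hSE))
    · exact sup_le (hCV.trans le_sup_right) le_sup_left

/-- Offenders are full and meet the bound. -/
theorem Hyp.key (h : Hyp n S K) (hZ : ¬ zS S ≤ center G) {A : Subgroup G}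
    (hA : A ∈ maxAdm 0 (S : Subgroup G)) (hAQ : ¬ A ≤ pCore p G) :
    (vS S ⊓ centralizer (A : Set G)).relIndex (vS S) = p ^ n ∧ K.relIndex A = p ^ n ∧
      vS S ⊔ (A ⊓ K) ∈ maxAdm 0 (S : Subgroup G) := by
  classical
  set V := vS S with hVdef
  set C1 := V ⊓ centralizer (A : Set G) with hC1
  set B := A ⊓ K with hB
  obtain ⟨s, hsA, hsK⟩ : ∃ s ∈ A, s ∉ K := SetLike.not_le_iff_exists.1 fun hle =>
    hAQ fun x hx => h.inf_eq.le ⟨hA.1 hx, hle hx⟩
  have hBQ : B ≤ pCore p G := fun x hx => h.inf_eq.le ⟨hA.1 hx.1, hx.2⟩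
  have hcomm : ∀ v ∈ V, ∀ x ∈ B, v * x = x * v := fun v hv x hx => (h.vS_comm hv (hBQ hx)).symm
  have hsup := CfsgLib.Transfer.card_mul_card_of_commute V B hcomm
  have hinf : V ⊓ B = C1 := by
    ext x
    constructor
    · rintro ⟨hxV, hxA, -⟩
      exact ⟨hxV, mem_centralizer_iff.2 fun a ha => adm_comm hA.2.1 ha hxA⟩
    · rintro ⟨hxV, hxC⟩
      refine ⟨hxV, mem_of_commute_maxAdm (p := orderOf x) (Or.inl rfl) hA (h.vS_le_S hxV) (pow_orderOf_eq_one x)
        fun a ha => (mem_centralizer_iff.1 hxC a ha).symm, h.pCore_le (h.vS_le hxV).1⟩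
  have hVB : V ⊔ B ≤ (S : Subgroup G) := sup_le h.vS_le_S (inf_le_left.trans hA.1)
  have hVBadm : Adm 0 (V ⊔ B) := by
    refine ⟨?_, fun a _ => pow_zero a⟩
    rw [sup_eq_closure]
    refine isMulCommutative_closure ?_
    rintro u (hu | hu) v (hv | hv)
    · exact (h.vS_comm hv (h.vS_le hu).1)
    · exact hcomm u hu v hv
    · exact (hcomm v hv u hu).symm
    · exact adm_comm hA.2.1 hu.1 hv.1
  have hle := hA.2.2 _ hVB hVBadm
  have hVd : Nat.card C1 * C1.relIndex V = Nat.card V := by
    rw [← relIndex_bot_left, relIndex_mul_relIndex _ _ _ bot_le inf_le_left, relIndex_bot_left]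
  have hAd : Nat.card B * K.relIndex A = Nat.card A := by
    rw [← inf_relIndex_left, ← hB, ← relIndex_bot_left, relIndex_mul_relIndex _ _ _ bot_le inf_le_left,
      relIndex_bot_left]
  set d := C1.relIndex V with hd
  set e := K.relIndex A with he
  rw [hinf] at hsup
  have hde : d ≤ e := by
    refine Nat.le_of_mul_le_mul_left ?_ (Nat.mul_pos (Nat.card_pos (α := C1)) (Nat.card_pos (α := B)))
    calc Nat.card C1 * Nat.card B * d = Nat.card V * Nat.card B := by rw [← hVd]; ring
      _ = Nat.card (V ⊔ B : Subgroup G) * Nat.card C1 := hsup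
      _ ≤ Nat.card A * Nat.card C1 := Nat.mul_le_mul_right _ hle
      _ = _ := by rw [← hAd]; ring
  have he' : e ≤ p ^ n := h.relIndex ▸ relIndex_le_of_le_right hA.1 index_ne_zero_of_finite
  have hCV := h.centralizer_le_K hZ
  have hlow : p ^ n ≤ d := by
    by_cases hn : 2 ≤ n
    · obtain ⟨r, a, hr, hrp, hmin, hpair⟩ := h.pair hn
      haveI := Fact.mk hr
      obtain ⟨g, z, m, hzcl, hzm, hzK⟩ := hpair s (hA.1 hsA) hsK
      have hmove : ∃ v ∈ V, z ^ r ^ a * v ≠ v * z ^ r ^ a := by
        by_contra hc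
        push Not at hc
        exact hzK (hCV (mem_centralizer_iff.2 fun v hv => (hc v hv).symm))
      have hVg : V.map (MulAut.conj g).toMonoidHom = V :=
        conjSub_eq_iff_mem_normalizer.2 (by rw [normalizer_eq_top V]; trivial)
      set C2 := C1.map (MulAut.conj g).toMonoidHom with hC2
      have hrel : C2.relIndex V = d := by
        conv_lhs => rw [hC2, ← hVg]
        exact relIndex_map_map_of_injective _ _ (MulAut.conj g).injective
      have hfix : ∀ w ∈ C1 ⊓ C2, z * w = w * z := by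
        rintro w ⟨hw, w', hw', rfl⟩
        refine (mem_centralizer_singleton_iff.1 ((closure_le _).2 ?_ hzcl)).symm.symm
        rintro y (rfl | rfl)
        · exact mem_centralizer_singleton_iff.2 (mem_centralizer_iff.1 hw.2 _ hsA)
        · refine mem_centralizer_singleton_iff.2 ?_
          show g * s * g⁻¹ * (g * w' * g⁻¹) = g * w' * g⁻¹ * (g * s * g⁻¹)
          calc g * s * g⁻¹ * (g * w' * g⁻¹) = g * (s * w') * g⁻¹ := by group
            _ = g * (w' * s) * g⁻¹ := by rw [mem_centralizer_iff.1 hw'.2 _ hsA]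
            _ = _ := by group
      obtain ⟨k, hk, hkd, hkle⟩ := index_bound h.vS_isPGroup
        (by rw [normalizer_eq_top V]; trivial) hrp hzm hmove
        (inf_le_left.trans inf_le_left : C1 ⊓ C2 ≤ V) hfix
      have h2 : (p ^ n) ^ 2 ≤ d ^ 2 := by
        rw [← pow_mul, mul_comm n 2, pow_two]
        refine ((Nat.pow_le_pow_right hp.out.pos (hmin k hk hkd)).trans hkle).trans (relIndex_inf_le.trans ?_)
        rw [hrel]
      exact (Nat.pow_le_pow_iff_left two_ne_zero).1 h2
    · obtain rfl : n = 1 := by have := h.pos; omega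
      rw [pow_one]
      obtain ⟨j, hj⟩ := IsPGroup.iff_card.1 h.vS_isPGroup
      obtain ⟨i, -, hi⟩ := (Nat.dvd_prime_pow hp.out).1 (hj ▸ relIndex_dvd_card C1 V)
      rcases i with _ | i
      · rw [pow_zero, relIndex_eq_one] at hi
        refine absurd (hCV (mem_centralizer_iff.2 fun v hv => ?_)) hsK
        exact (mem_centralizer_iff.1 (hi hv).2 s hsA).symm
      · rw [hd, hi]
        exact Nat.le_self_pow (Nat.succ_ne_zero i) p
  have hdq : d = p ^ n := le_antisymm (hde.trans he') hlow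
  have heq : e = p ^ n := le_antisymm he' (hlow.trans hde)
  refine ⟨hdq, heq, hVB, hVBadm, fun C hC hCa => (hA.2.2 C hC hCa).trans (le_of_eq ?_)⟩
  refine Nat.eq_of_mul_eq_mul_right (Nat.card_pos (α := C1)) ?_
  rw [← hsup, ← hVd, ← hAd, hdq, heq]
  ring

end CfsgLib.LocalEven.RankOne
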