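import Cfsg.Agent.Lib.LocalEven.RankOne.Model
import Cfsg.Agent.Lib.LocalEven.RankOne.Count
import Cfsg.Agent.Lib.LocalEven.ZJFusion.Main

/-!
The setting: constrained group, unique maximal subgroup over a Sylow subgroup, quotient `PSL₂(q)`.
-/

set_option autoImplicit false

namespace CfsgLib.LocalEven.RankOne

open Cfsg Subgroup
open CfsgLib.PStab
open CfsgLib.Fusion (conjSub conj_mem_conjSub conjSub_eq_iff_mem_normalizer card_conjSub)
open scoped commutatorElement

theorem LikeL2.of_equiv {p n : ℕ} [Fact p.Prime] {A B : Type*} [Group A] [Group B] [Finite A] [Finite B]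
    (e : A ≃* B) (h : LikeL2 p n B) : LikeL2 p n A := by
  have hs : Function.Surjective e.toMonoidHom := e.surjective
  have hmap : ∀ P : Sylow p A, ((P.mapSurjective hs : Sylow p B) : Subgroup B) = (P : Subgroup A).map e.toMonoidHom :=
    fun P => rfl
  refine ⟨fun P => ?_, fun P x hx y hy => e.injective ?_, fun P x hx => e.injective ?_,
    fun P N hN hne => map_injective (f := e.toMonoidHom) e.injective ?_, fun P he => ?_, fun P => ?_,
    fun hn => ?_⟩
  · rw [← h.card (P.mapSurjective hs), hmap, card_map_of_injective (show Function.Injective e.toMonoidHom from e.injective)]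
  · rw [map_mul, map_mul]
    exact h.comm (P.mapSurjective hs) _ ⟨x, hx, rfl⟩ _ ⟨y, hy, rfl⟩
  · rw [map_pow, map_one]
    exact h.exponent (P.mapSurjective hs) _ ⟨x, hx, rfl⟩
  · rw [Subgroup.map_sup, map_top_of_surjective _ hs, ← hmap]
    exact h.gen _ _ (hN.map _ hs) fun hb => hne ((map_eq_bot_iff_of_injective _ e.injective).1 hb)
  · exact h.proper (P.mapSurjective hs) (by rw [hmap, he, map_top_of_surjective _ hs])
  · obtain ⟨g, hg⟩ := h.two (P.mapSurjective hs)
    refine ⟨e.symm g, map_injective (f := e.toMonoidHom) e.injective ?_⟩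
    rw [Subgroup.map_sup, map_top_of_surjective _ hs, ← hg, hmap, map_map, map_map]
    congr 2
    ext x
    simp
  · obtain ⟨r, a, hr, hrp, hmin, hp'⟩ := h.pair hn
    refine ⟨r, a, hr, hrp, hmin, fun u hu hu1 => ?_⟩
    obtain ⟨g, hg⟩ := hp' (e u) (by rw [← map_pow, hu, map_one]) fun he => hu1 (e.injective (he.trans (map_one e).symm))
    refine ⟨e.symm g, ?_⟩
    rwa [← orderOf_injective e.toMonoidHom e.injective, map_mul, map_mul, map_mul, map_inv,
      MulEquiv.coe_toMonoidHom, MulEquiv.apply_symm_apply]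

variable {G : Type*} [Group G] [Finite G] {p n : ℕ} [hp : Fact p.Prime]

/-- The hypotheses. -/
structure Hyp (n : ℕ) (S : Sylow p G) (K : Subgroup G) [K.Normal] : Prop where
  cE : centralizer (pCore p G : Set G) ≤ pCore p G
  uniq : ∃! M : Subgroup G, IsCoatom M ∧ (S : Subgroup G) ≤ M
  like : LikeL2 p n (G ⧸ K)
  pos : 1 ≤ n

variable {S : Sylow p G} {K : Subgroup G} [K.Normal]

/-- The image of the Sylow subgroup. -/
noncomputable def bar (S : Sylow p G) (K : Subgroup G) [K.Normal] : Sylow p (G ⧸ K) :=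
  S.mapSurjective (QuotientGroup.mk'_surjective K)

theorem coe_bar : ((bar S K : Sylow p (G ⧸ K)) : Subgroup (G ⧸ K)) = (S : Subgroup G).map (QuotientGroup.mk' K) := rfl

theorem map_mk_eq_top {H : Subgroup G} : H.map (QuotientGroup.mk' K) = ⊤ ↔ H ⊔ K = ⊤ := by
  constructor
  · intro h
    have := congrArg (comap (QuotientGroup.mk' K)) h
    rwa [comap_map_eq, QuotientGroup.ker_mk', comap_top] at this
  · intro h
    have := congrArg (map (QuotientGroup.mk' K)) h
    rwa [Subgroup.map_sup, (Subgroup.map_eq_bot_iff (H := K) (f := QuotientGroup.mk' K)).2 (QuotientGroup.ker_mk' K).ge, sup_bot_eq,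
      map_top_of_surjective _ (QuotientGroup.mk'_surjective K)] at this

theorem Hyp.sup_ne_top (h : Hyp n S K) : (S : Subgroup G) ⊔ K ≠ ⊤ := fun he =>
  h.like.proper (bar S K) (map_mk_eq_top.2 he)

/-- A subgroup over `S` that covers the quotient is the whole group. -/
theorem Hyp.eq_top (h : Hyp n S K) {H : Subgroup G} (hS : (S : Subgroup G) ≤ H) (hH : H ⊔ K = ⊤) : H = ⊤ := by
  by_contra hne
  obtain ⟨M, hM, huniq⟩ := h.uniq
  obtain ⟨M₁, hM₁, hHM⟩ := (eq_top_or_exists_le_coatom H).resolve_left hne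
  obtain ⟨M₂, hM₂, hKM⟩ := (eq_top_or_exists_le_coatom _).resolve_left h.sup_ne_top
  obtain rfl := huniq M₁ ⟨hM₁, hS.trans hHM⟩
  obtain rfl := huniq M₂ ⟨hM₂, le_sup_left.trans hKM⟩
  exact hM₁.1 (top_unique (hH.ge.trans (sup_le hHM (le_sup_right.trans hKM))))

/-- A normal subgroup not in `K` is a supplement of `S`. -/
theorem Hyp.gen (h : Hyp n S K) {C : Subgroup G} (hC : C.Normal) (hCK : ¬ C ≤ K) : C ⊔ (S : Subgroup G) = ⊤ := by
  refine h.eq_top le_sup_right ?_
  rw [← map_mk_eq_top, Subgroup.map_sup]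
  refine h.like.gen (bar S K) _ (hC.map _ (QuotientGroup.mk'_surjective K)) fun hb => hCK ?_
  rw [Subgroup.map_eq_bot_iff, QuotientGroup.ker_mk'] at hb
  exact hb

theorem Hyp.pCore_le (h : Hyp n S K) : pCore p G ≤ K := by
  by_contra hle
  have h1 := h.gen (C := pCore p G) inferInstance hle
  rw [sup_eq_right.2 (CfsgLib.Cores.pCore_le_sylow S)] at h1
  exact h.sup_ne_top (by rw [h1, top_sup_eq])

theorem Hyp.inf_eq (h : Hyp n S K) : (S : Subgroup G) ⊓ K = pCore p G := by
  refine le_antisymm ?_ (le_inf (CfsgLib.Cores.pCore_le_sylow S) h.pCore_le)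
  set D := (S : Subgroup G) ⊓ K with hD
  have hnor : normalizer (D : Set G) ⊔ K = ⊤ := by
    refine eq_top_iff.2 fun g _ => ?_
    have hi := CfsgLib.LocalEven.ZJFusion.not_dvd_relIndex_inf (p := p) (K := ⊤) (C := K) S.2 le_top
      (by rw [relIndex_top_right]; exact S.not_dvd_index) le_top (by rw [normalizer_eq_top])
    have hgK : conjSub g K = K := conjSub_eq_iff_mem_normalizer.2 (by rw [normalizer_eq_top]; trivial)
    obtain ⟨c, hc, e⟩ := CfsgLib.Techniques.Functor.exists_conjSub_eq (H := K) (T := conjSub g D) (R := D)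
      ((S.2.to_le inf_le_left).map _) (by rw [← hgK]; exact CfsgLib.Fusion.conjSub_mono g inf_le_right)
      (by
        have h2 := CfsgLib.Fusion.not_dvd_relIndex_map (MulAut.conj g).toMonoidHom (inf_le_right : D ≤ K) hi
        rwa [show K.map (MulAut.conj g).toMonoidHom = K from hgK] at h2)
      (S.2.to_le inf_le_left) inf_le_right hi
    rw [CfsgLib.Fusion.conjSub_conjSub] at e
    rw [sup_comm, show g = c⁻¹ * (c * g) by group]
    exact Subgroup.mul_mem _ (mem_sup_left (K.inv_mem hc)) (mem_sup_right (conjSub_eq_iff_mem_normalizer.1 e))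
  have hSD : (S : Subgroup G) ≤ normalizer (D : Set G) := fun s hs =>
    CfsgLib.Solvable.mem_normalizer_of_conj_mem fun x hx =>
      ⟨(S : Subgroup G).mul_mem ((S : Subgroup G).mul_mem hs hx.1) ((S : Subgroup G).inv_mem hs), ‹K.Normal›.conj_mem x hx.2 s⟩
  haveI : D.Normal := normalizer_eq_top_iff.1 (h.eq_top hSD hnor)
  exact CfsgLib.Cores.le_pCore (S.2.to_le inf_le_left)

theorem Hyp.relIndex (h : Hyp n S K) : K.relIndex (S : Subgroup G) = p ^ n := by
  conv_lhs => rw [← QuotientGroup.ker_mk' K]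
  rw [relIndex_ker]
  exact h.like.card (bar S K)

theorem Hyp.pow_mem (h : Hyp n S K) {s : G} (hs : s ∈ (S : Subgroup G)) : s ^ p ∈ K := by
  rw [← QuotientGroup.eq_one_iff]
  show QuotientGroup.mk' K (s ^ p) = 1
  rw [map_pow]
  exact h.like.exponent (bar S K) _ ⟨s, hs, rfl⟩

theorem Hyp.two (h : Hyp n S K) : ∃ g : G, (S : Subgroup G) ⊔ conjSub g S ⊔ K = ⊤ := by
  obtain ⟨g, hg⟩ := h.like.two (bar S K)
  obtain ⟨g, rfl⟩ := QuotientGroup.mk'_surjective K g
  refine ⟨g, map_mk_eq_top.1 ?_⟩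
  rw [← hg, Subgroup.map_sup, coe_bar, conjSub, map_map, map_map]
  congr 2

/-- An element of large `r`-power order generated by two conjugates. -/
theorem Hyp.pair (h : Hyp n S K) (hn : 2 ≤ n) : ∃ r a : ℕ, r.Prime ∧ r ≠ p ∧
    (∀ k, 0 < k → r ^ (a + 1) ∣ p ^ k - 1 → 2 * n ≤ k) ∧ ∀ s ∈ (S : Subgroup G), s ∉ K →
      ∃ (g z : G) (m : ℕ), z ∈ closure ({s, g * s * g⁻¹} : Set G) ∧ z ^ r ^ m = 1 ∧ z ^ r ^ a ∉ K := by
  obtain ⟨r, a, hr, hrp, hmin, hpair⟩ := h.like.pair hn
  refine ⟨r, a, hr, hrp, hmin, fun s hs hsK => ?_⟩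
  haveI := Fact.mk hr
  set π := QuotientGroup.mk' K with hπ
  obtain ⟨g, hg⟩ := hpair (π s) (by rw [← map_pow]; exact (QuotientGroup.eq_one_iff _).2 (h.pow_mem hs))
    fun he => hsK ((QuotientGroup.eq_one_iff s).1 he)
  obtain ⟨g, rfl⟩ := QuotientGroup.mk'_surjective K g
  rw [← map_inv, ← map_mul, ← map_mul, ← map_mul] at hg
  set e := s * (g * s * g⁻¹) with he
  obtain ⟨m, l, hl, hel⟩ := Nat.exists_eq_pow_mul_and_not_dvd (orderOf_pos e).ne' r hr.ne_one
  refine ⟨g, e ^ l, m, ?_, ?_, fun hK => ?_⟩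
  · exact Subgroup.pow_mem _ (mul_mem (subset_closure (by simp)) (subset_closure (by simp))) _
  · rw [← pow_mul, mul_comm, ← hel, pow_orderOf_eq_one]
  · have h1 : orderOf (π e) ∣ l * r ^ a := by
      refine orderOf_dvd_of_pow_eq_one ?_
      rw [pow_mul, ← map_pow, ← map_pow]
      exact (QuotientGroup.eq_one_iff _).2 hK
    have h2 : r ^ (a + 1) ∣ r ^ a := ((Nat.Coprime.pow_left _ (hr.coprime_iff_not_dvd.2 hl)).dvd_mul_left).1 (hg.trans h1)
    exact absurd ((Nat.pow_dvd_pow_iff_le_right hr.one_lt).1 h2) (by omega)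

/-- Central if centralised by `S` and by a normal subgroup not in `K`. -/
theorem Hyp.le_center_of (h : Hyp n S K) {C X : Subgroup G} (hC : C.Normal) (hCK : ¬ C ≤ K)
    (hCX : C ≤ centralizer (X : Set G)) (hSX : (S : Subgroup G) ≤ centralizer (X : Set G)) : X ≤ center G :=
  fun x hx => mem_center_iff.2 fun g =>
    (mem_centralizer_iff.1 ((h.gen hC hCK).ge.trans (sup_le hCX hSX) (mem_top g)) x hx).symm

omit [Finite G] hp in
theorem normal_of_le_center {X : Subgroup G} (hX : X ≤ center G) : X.Normal :=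
  ⟨fun x hx g => by rwa [mem_center_iff.1 (hX hx) g, mul_inv_cancel_right]⟩

end CfsgLib.LocalEven.RankOne
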